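import Cfsg.Agent.H99.RankOne.Hecke
import Cfsg.Agent.S1124
import Cfsg.Agent.S1131
import Cfsg.Agent.S0205
import Mathlib.GroupTheory.FiniteAbelian.Duality
import Mathlib.GroupTheory.Abelianization.Defs
import Mathlib.RingTheory.RootsOfUnity.EnoughRootsOfUnity

/-!
# Rank one: a non-trivial invariant character of the two-point stabiliser exists when `C_D(t) ≠ 1`
-/

set_option autoImplicit false
set_option linter.unusedSectionVars false
set_option linter.style.haveILetI false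

namespace Cfsg.Agent.H99.RankOne.Hecke

open MulAction

universe u v

variable {G : Type u} {Ω : Type v} [Group G] [Finite G] [MulAction G Ω] [FaithfulSMul G Ω] {a : Ω}
  {t : G} {Q : Subgroup G}
  (hS : Cfsg.IsRankOneSetup G Ω a t Q)
  (h2 : ∃ x y : G, x ≠ 1 ∧ y ≠ 1 ∧ x ≠ y ∧ x * x = 1 ∧ y * y = 1 ∧ x * y = y * x)

include hS h2

/-- A non-trivial invariant homomorphism. -/
theorem exists_goodHom
    (hV : (stabilizer G a ⊓ stabilizer G (t • a)) ⊓ Subgroup.centralizer {t} ≠ ⊥) :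
    ∃ ω : ↥(stabilizer G a ⊓ stabilizer G (t • a)) →* ℂ, IsGoodHom hS ω ∧ ω ≠ 1 := by
  obtain ⟨C, hC, -, hCn⟩ := S1131.result hS h2
  let C' := C.subgroupOf (stabilizer G a ⊓ stabilizer G (t • a))
  haveI : C'.Normal := ⟨fun x hx d => Subgroup.mem_subgroupOf.2
    (hCn _ d.2 _ (Subgroup.mem_subgroupOf.1 hx))⟩
  obtain ⟨hdec, -, -⟩ := S1124.result t (orderOf_eq_prime (by rw [pow_two, hS.mul_self]) hS.ne_one)
    (stabilizer G a ⊓ stabilizer G (t • a)) hS.odd_card (fun x hx => H38.t_mem_normalizer_D hS hx)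
  have hCtop : C' ≠ ⊤ := by
    intro h
    obtain ⟨v, hv, hv1⟩ := (Subgroup.bot_or_exists_ne_one _).resolve_left hV
    have hvC : v ∈ (C : Set G) := Subgroup.mem_subgroupOf.1
      (show (⟨v, hv.1⟩ : ↥(stabilizer G a ⊓ stabilizer G (t • a))) ∈ C' from h ▸ Subgroup.mem_top _)
    rw [hC] at hvC
    have he : t * v * t⁻¹ = v := by
      rw [mul_inv_eq_iff_eq_mul]
      exact (Subgroup.mem_centralizer_singleton_iff.1 hv.2).symm
    rw [hvC.2] at he
    exact hv1 (H38.eq_one_of_mul_self_eq_one hS.odd_card hv.1 (mul_eq_one_iff_eq_inv.2 he.symm))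
  haveI : Group.IsSolvable ↥(stabilizer G a ⊓ stabilizer G (t • a)) := S0205.result hS.odd_card
  haveI : Nontrivial (↥(stabilizer G a ⊓ stabilizer G (t • a)) ⧸ C') :=
    (QuotientGroup.nontrivial_iff).2 hCtop
  haveI : Group.IsSolvable (↥(stabilizer G a ⊓ stabilizer G (t • a)) ⧸ C') := inferInstance
  let A := Abelianization (↥(stabilizer G a ⊓ stabilizer G (t • a)) ⧸ C')
  obtain ⟨y, hy⟩ : ∃ y : A, y ≠ 1 := by
    have hlt := Group.IsSolvable.commutator_lt_top_of_nontrivial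
      (↥(stabilizer G a ⊓ stabilizer G (t • a)) ⧸ C')
    obtain ⟨y, -, hy⟩ := SetLike.exists_of_lt hlt
    exact ⟨Abelianization.of y, fun h => hy ((QuotientGroup.eq_one_iff y).1 h)⟩
  haveI : NeZero (Monoid.exponent A : ℂ) := ⟨Nat.cast_ne_zero.mpr Monoid.exponent_ne_zero_of_finite⟩
  obtain ⟨φ, hφ⟩ := CommGroup.exists_apply_ne_one_of_hasEnoughRootsOfUnity A ℂ hy
  obtain ⟨x, rfl⟩ := QuotientGroup.mk_surjective y
  obtain ⟨x, rfl⟩ := QuotientGroup.mk_surjective x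
  refine ⟨(Units.coeHom ℂ).comp (φ.comp (Abelianization.of.comp (QuotientGroup.mk' C'))), ⟨?_⟩,
    fun h => hφ (Units.ext (DFunLike.congr_fun h x))⟩
  intro d
  show ((φ (Abelianization.of (QuotientGroup.mk' C' _)) : ℂˣ) : ℂ) =
    ((φ (Abelianization.of (QuotientGroup.mk' C' d)) : ℂˣ) : ℂ)
  congr 3
  refine (QuotientGroup.eq).2 (Subgroup.mem_subgroupOf.2 ?_)
  obtain ⟨⟨v, c⟩, ⟨hv, hc, hd⟩, -⟩ := hdec _ d.2
  simp only at hv hc hd
  have hct : t * v * t⁻¹ = v := by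
    rw [mul_inv_eq_iff_eq_mul]
    exact (Subgroup.mem_centralizer_singleton_iff.1 hv.2).symm
  have hcC : c ∈ C := show c ∈ (C : Set G) from hC ▸ hc
  show (t * (d : G) * t⁻¹)⁻¹ * (d : G) ∈ C
  rw [hd, show t * (v * c) * t⁻¹ = (t * v * t⁻¹) * (t * c * t⁻¹) by group, hct, hc.2,
    show (v * c⁻¹)⁻¹ * (v * c) = c * c by group]
  exact mul_mem hcC hcC

end Cfsg.Agent.H99.RankOne.Hecke
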