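import Cfsg.Agent.H99.RankOne.QTwo
import Cfsg.Agent.H99.RankOne.Hom

/-!
# Rank one: `Q` has order `q ^ 3` and exponent at most four when `C_D(t) ≠ 1`
-/

set_option autoImplicit false
set_option linter.unusedSectionVars false

namespace Cfsg.Agent.H99.RankOne

open MulAction

universe u v

variable {G : Type u} {Ω : Type v} [Group G] [Finite G] [MulAction G Ω] [FaithfulSMul G Ω] {a : Ω}
  {t : G} {Q : Subgroup G}

/-- If `Q` and `t` generate and some element `≠ 1` of the two-point stabiliser commutes with `t`, then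
`Q` is a 2-group of exponent at most 4 and of order `q ^ 3`, `q - 1` the number of involutions fixing
`a`. -/
theorem structure_Q (hS : Cfsg.IsRankOneSetup G Ω a t Q)
    (h2 : ∃ x y : G, x ≠ 1 ∧ y ≠ 1 ∧ x ≠ y ∧ x * x = 1 ∧ y * y = 1 ∧ x * y = y * x)
    (hgen : Subgroup.closure ((Q : Set G) ∪ {t}) = ⊤)
    (hV : (stabilizer G a ⊓ stabilizer G (t • a)) ⊓ Subgroup.centralizer {t} ≠ ⊥) :
    IsPGroup 2 Q ∧ (∀ x ∈ Q, (x * x) * (x * x) = 1) ∧
      Nat.card Q = (Nat.card (Cfsg.involutionsIn (stabilizer G a : Set G)) + 1) ^ 3 := by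
  classical
  cases nonempty_fintype G
  obtain ⟨ω, hω, hne⟩ := Hecke.exists_goodHom hS h2 hV
  obtain ⟨h1, h3, h4, -⟩ := Hecke.card_eq_cube hS h2 hω hgen hne
  exact ⟨h1, h3, h4⟩

/-- The coefficient of every non-trivial invariant character is `q - q ^ 2`. -/
theorem coef_eq [Fintype G] (hS : Cfsg.IsRankOneSetup G Ω a t Q)
    (h2 : ∃ x y : G, x ≠ 1 ∧ y ≠ 1 ∧ x ≠ y ∧ x * x = 1 ∧ y * y = 1 ∧ x * y = y * x)
    (hgen : Subgroup.closure ((Q : Set G) ∪ {t}) = ⊤)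
    {ω : ↥(stabilizer G a ⊓ stabilizer G (t • a)) →* ℂ} (hω : Hecke.IsGoodHom hS ω) (hne : ω ≠ 1) :
    Hecke.coef hS ω = ((Nat.card (Cfsg.involutionsIn (stabilizer G a : Set G)) + 1 : ℕ) : ℂ) -
      ((Nat.card (Cfsg.involutionsIn (stabilizer G a : Set G)) + 1 : ℕ) : ℂ) ^ 2 :=
  (Hecke.card_eq_cube hS h2 hω hgen hne).2.2.2

end Cfsg.Agent.H99.RankOne
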