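import Cfsg.Agent.H99.RankOne.Canon
import Cfsg.Agent.H72.PSUThree.Stab

/-!
# `PSU₃(q)` as a rank-one configuration

`iso_psu`: a faithful pointed regular configuration `(a, t, Q)` in which `Q` is coordinatised by the pairs
`(b, β)` with `β + β ^ q + b * b ^ q = 0` and `t` acts by `(b, β) ↦ (-b/β, 1/β)` generates a group
isomorphic to `PSU₃(q)`.
-/

set_option autoImplicit false
set_option linter.unusedSectionVars false

namespace Cfsg.Agent.H99.RankOne

open Cfsg MulAction Cfsg.Agent.Unitary Cfsg.Agent.H52.SUThree Cfsg.Agent.H72.PSUThree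
open Matrix hiding vec

variable {F : Type*} [Field F] [Fintype F] {q : ℕ} {u w f : Fin 3 → F}

local notation "SUG" => SU 3 F q

theorem exists_flip (hF : Fintype.card F = q ^ 2) (hfr : Frame q u w f) :
    ∃ g : SUG, g * g = 1 ∧ ∀ p r s, ap g (vec u w f p r s) = vec u w f s (-r) p := by
  have hD : (!![0, 0, 1; 0, -1, 0; 1, 0, 0] : Matrix (Fin 3) (Fin 3) F).det = 1 := by
    simp [Matrix.det_fin_three]
  obtain ⟨g, hg⟩ := exists_map hF hfr _ hD (by
    intro x y
    simp [Matrix.mulVec, dotProduct, Fin.sum_univ_three, neg_pow_q hF]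
    ring)
  have hg' : ∀ p r s, ap g (vec u w f p r s) = vec u w f s (-r) p := by
    intro p r s
    rw [hg]
    simp [Matrix.mulVec, dotProduct, Fin.sum_univ_three]
  exact ⟨g, eq_of_ap hfr fun p r s => by rw [ap_mul, hg', hg', neg_neg, ap_one], hg'⟩

/-- The flip of `u` and `f`. -/
noncomputable def flip (hF : Fintype.card F = q ^ 2) (hfr : Frame q u w f) : SUG :=
  (exists_flip hF hfr).choose

theorem flip_sq (hF : Fintype.card F = q ^ 2) (hfr : Frame q u w f) :
    flip hF hfr * flip hF hfr = 1 :=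
  (exists_flip hF hfr).choose_spec.1

theorem ap_flip (hF : Fintype.card F = q ^ 2) (hfr : Frame q u w f) (p r s : F) :
    ap (flip hF hfr) (vec u w f p r s) = vec u w f s (-r) p :=
  (exists_flip hF hfr).choose_spec.2 p r s

theorem flip_pu (hF : Fintype.card F = q ^ 2) (hfr : Frame q u w f) :
    flip hF hfr • pu hfr = pf hfr := by
  refine smul_isoPt_eq (ne_zero_u hfr) hfr.uu (ne_zero_f hfr) hfr.ff one_ne_zero ?_
  rw [one_smul]
  have := ap_flip hF hfr 1 0 0
  simpa [vec] using this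

theorem flip_E_pf (hF : Fintype.card F = q ^ 2) (hfr : Frame q u w f) {b β b' β' : F}
    (h : Ok q b β) (h' : Ok q b' β') (hβ : β ≠ 0) (hb : b' = -(b / β)) (hβ' : β' = β⁻¹) :
    flip hF hfr • (eSU hF (h.spec hfr) • pf hfr) = eSU hF (h'.spec hfr) • pf hfr := by
  have e : flip hF hfr • eSU hF (h.spec hfr) • pf hfr
      = (flip hF hfr * eSU hF (h.spec hfr)) • pf hfr := (mul_smul _ _ _).symm
  rw [e]
  have h0 : ap (eSU hF (h'.spec hfr)) f ≠ 0 :=
    fun e0 => ne_zero_f hfr (ap_injective _ (e0.trans (ap_zero _).symm))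
  have hiso : hermForm 3 F q (ap (eSU hF (h'.spec hfr)) f) (ap (eSU hF (h'.spec hfr)) f) = 0 := by
    rw [herm_ap, hfr.ff]
  rw [show eSU hF (h'.spec hfr) • pf hfr = isoPt h0 hiso from
    smul_isoPt_eq (ne_zero_f hfr) hfr.ff h0 hiso one_ne_zero (one_smul F _).symm]
  refine smul_isoPt_eq (ne_zero_f hfr) hfr.ff h0 hiso (l := β) hβ ?_
  rw [ap_mul, ap_E_f hF hfr h, ap_flip, ap_E_f hF hfr h', H72.PSUThree.vec_smul, hb, hβ']
  congr 1 <;> field_simp

theorem isPointed_SU (hF : Fintype.card F = q ^ 2) (hfr : Frame q u w f) :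
    IsPointed SUG (IsoPoint 3 F q) (pu hfr) (flip hF hfr) (uni u) where
  mul_self := flip_sq hF hfr
  move := by
    rw [flip_pu]
    have h := E_pf_ne_pu hF hfr (Ok.zero hF)
    rwa [E_zero hF hfr, one_smul] at h
  fix := fun g hg => mem_stabilizer_iff.1 (uni_le_st hfr hg)
  regular := by
    intro c hc
    obtain ⟨b, β, h, rfl⟩ := exists_E_pf hF hfr hc
    refine ⟨⟨_, E_mem_uni hF hfr h⟩, by simp [flip_pu], ?_⟩
    rintro ⟨g, hg⟩ hgc
    obtain ⟨b', β', h', rfl⟩ := (mem_uni_iff hF hfr).1 hg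
    rw [flip_pu] at hgc
    obtain ⟨e1, e2⟩ := E_pf_inj hF hfr h' h hgc
    exact Subtype.ext (E_congr hF hfr h' h e1 e2)

theorem closure_uni_flip (hF : Fintype.card F = q ^ 2) (hq : 3 ≤ q) (hfr : Frame q u w f) :
    Subgroup.closure (((uni u : Subgroup SUG) : Set SUG) ∪ {flip hF hfr}) = ⊤ := by
  set H := Subgroup.closure (((uni u : Subgroup SUG) : Set SUG) ∪ {flip hF hfr})
  have hU : uni u ≤ H := fun g hg => Subgroup.subset_closure (Or.inl hg)
  have ht : flip hF hfr ∈ H := Subgroup.subset_closure (Or.inr rfl)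
  rw [eq_top_iff, ← tgroup_eq_top hF (Or.inr ⟨rfl, hq⟩), tgroup, Subgroup.closure_le]
  rintro A ⟨v, c, hv, hA⟩
  rcases eq_or_ne v 0 with rfl | hv0
  · have : A = 1 := ap_ext fun x => by
      rw [ap_def, hA, unitaryTransvection_mulVec, ap_one]; simp
    rw [this]
    exact one_mem _
  obtain ⟨g, hg, hgu⟩ : ∃ g ∈ H, g • pu hfr = isoPt hv0 hv := by
    by_cases e : isoPt hv0 hv = pu hfr
    · exact ⟨1, one_mem _, by rw [one_smul, e]⟩
    · obtain ⟨b, β, h, e'⟩ := exists_E_pf hF hfr e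
      exact ⟨_, mul_mem (hU (E_mem_uni hF hfr h)) ht, by rw [mul_smul, flip_pu, e']⟩
  have hmem : ap g u ∈ (isoPt hv0 hv).1 := by
    rw [← hgu, coe_smul_isoPoint]
    exact Submodule.mem_map_of_mem (Submodule.mem_span_singleton_self u)
  obtain ⟨l, hl⟩ := Submodule.mem_span_singleton.1 hmem
  have hfix : ap A (ap g u) = ap g u := by
    rw [ap_def A, hA, unitaryTransvection_mulVec, ← hl, herm_smul_left, hv]
    simp
  have hk : g⁻¹ * A * g ∈ H := hU (mem_uni.2 (by rw [ap_mul, ap_mul, hfix, ap_inv_ap]))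
  have := mul_mem (mul_mem hg hk) (inv_mem hg)
  simpa [mul_assoc] using this

theorem map_top_equiv_psu (hF : Fintype.card F = q ^ 2) :
    Nonempty (↥((⊤ : Subgroup SUG).map (toPermHom SUG (IsoPoint 3 F q))) ≃* PSU 3 F q) := by
  have hker : Subgroup.center SUG = (toPermHom SUG (IsoPoint 3 F q)).ker := by
    ext A
    rw [MonoidHom.mem_ker]
    refine ⟨fun hA => Equiv.ext fun L => ?_,
      fun h => mem_center_of_fix hF le_rfl fun L => Equiv.ext_iff.1 h L⟩
    obtain ⟨l, hl⟩ := eq_smul_of_mem_center hF (by norm_num) hA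
    obtain ⟨v, hv0, hv, rfl⟩ := exists_isoPt L
    have hl0 : l ≠ 0 := fun h0 => hv0 (ap_injective A (by rw [hl, h0, zero_smul, ap_zero]))
    exact smul_isoPt_eq hv0 hv hv0 hv hl0 (hl v)
  refine ⟨(MulEquiv.subgroupCongr (MonoidHom.range_eq_map _).symm).trans
    ((QuotientGroup.quotientKerEquivRange _).symm.trans ?_)⟩
  exact QuotientGroup.quotientMulEquivOfEq hker.symm

/-- Recognition of `PSU₃(q)` from coordinates on `Q` and the map of `t`. -/
theorem iso_psu {G Ω : Type*} [Group G] [MulAction G Ω] [FaithfulSMul G Ω] {a : Ω} {t : G}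
    {Q : Subgroup G} (h : IsPointed G Ω a t Q) (hF : Fintype.card F = q ^ 2) (hq : 3 ≤ q)
    (c : Q ≃ {p : F × F // Ok q p.1 p.2})
    (hmul : ∀ x y : Q, (c (x * y)).1 =
      ((c x).1.1 + (c y).1.1, (c x).1.2 + (c y).1.2 - (c y).1.1 * (c x).1.1 ^ q))
    (hmap : ∀ x y : Q, t • ((x : G) • (t • a)) = (y : G) • (t • a) →
      (c y).1 = (-((c x).1.1 / (c x).1.2), ((c x).1.2)⁻¹)) :
    Nonempty (↥(Subgroup.closure ((Q : Set G) ∪ {t})) ≃* PSU 3 F q) := by
  obtain ⟨u, w, f, hfr⟩ := exists_frame (q := q) hF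
  let ψ : Q → (uni u : Subgroup SUG) := fun x =>
    ⟨eSU hF ((c x).2.spec hfr), E_mem_uni hF hfr (c x).2⟩
  have hψ : Function.Bijective ψ := by
    constructor
    · intro x y e
      obtain ⟨e1, e2⟩ := E_inj hF hfr (c x).2 (c y).2 (congrArg Subtype.val e)
      exact c.injective (Subtype.ext (Prod.ext e1 e2))
    · rintro ⟨g, hg⟩
      obtain ⟨b, β, hok, rfl⟩ := (mem_uni_iff hF hfr).1 hg
      refine ⟨c.symm ⟨(b, β), hok⟩, Subtype.ext (E_congr hF hfr (c (c.symm ⟨(b, β), hok⟩)).2 hok ?_ ?_)⟩ <;> simp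
  let φ : Q ≃* (uni u : Subgroup SUG) :=
    MulEquiv.mk' (Equiv.ofBijective ψ hψ) fun x y => Subtype.ext (by
      show eSU hF ((c (x * y)).2.spec hfr) = eSU hF ((c x).2.spec hfr) * eSU hF ((c y).2.spec hfr)
      rw [E_mul hF hfr (c x).2 (c y).2]
      exact E_congr hF hfr (c (x * y)).2 ((c x).2.add hF (c y).2)
        (congrArg Prod.fst (hmul x y)) (congrArg Prod.snd (hmul x y)))
  have hnz : ∀ x y : Q, t • ((x : G) • (t • a)) = (y : G) • (t • a) → (c x).1.2 ≠ 0 := by
    intro x y e h0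
    -- `β = 0` forces `b = 0`, so `x = 1`, but then `t` sends the point to `a`
    have hb : (c x).1.1 = 0 := by
      have := (c x).2
      rw [Ok, h0, zero_pow (q_ne_zero hF), zero_add, zero_add] at this
      rcases mul_eq_zero.1 this with h1 | h1
      · exact h1
      · exact (pow_q_eq_zero_iff hF).1 h1
    have hx : x = 1 := by
      apply φ.injective
      rw [map_one]
      refine Subtype.ext ?_
      show eSU hF ((c x).2.spec hfr) = 1
      rw [← E_zero hF hfr]
      exact E_congr hF hfr (c x).2 (Ok.zero hF) hb h0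
    subst hx
    rw [Subgroup.coe_one, one_smul, ← mul_smul, h.mul_self, one_smul] at e
    exact pt_some_ne h y (by simpa [pt] using e.symm)
  obtain ⟨i⟩ := iso_map_of_tmap h (isPointed_SU hF hfr) φ (by
    intro x y e
    rw [flip_pu]
    show flip hF hfr • (eSU hF ((c x).2.spec hfr) • pf hfr) = eSU hF ((c y).2.spec hfr) • pf hfr
    exact flip_E_pf hF hfr (c x).2 (c y).2 (hnz x y e) (congrArg Prod.fst (hmap x y e))
      (congrArg Prod.snd (hmap x y e)))
  obtain ⟨j⟩ := map_top_equiv_psu (F := F) (q := q) hF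
  exact ⟨(i.trans (MulEquiv.subgroupCongr (by rw [closure_uni_flip hF hq hfr]))).trans j⟩

end Cfsg.Agent.H99.RankOne
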