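import Cfsg.Agent.H38.RankOne
import Mathlib.Algebra.Group.End
import Mathlib.GroupTheory.Index

/-!
# Rank one: the group generated by `Q` and `t` is determined by `Q` and the action of `t`

* `closure_iso`: two faithful actions with intertwined generating sets give isomorphic groups.
* `iso_of_tmap`: in two pointed regular configurations `(a, t, Q)`, an isomorphism `Q ≃* Q'` carrying
  the map of `t` to the map of `t'` gives `⟨Q, t⟩ ≃* ⟨Q', t'⟩`.
* `closure_eq_normalClosure`, `closure_normal`, `odd_index_closure`: in a rank-one set-up `⟨Q, t⟩` is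
  the normal closure of `Q`, of odd index.
-/

set_option autoImplicit false

namespace Cfsg.Agent.H99.RankOne

open MulAction

section Closure

variable {G G' Ω Ω' : Type*} [Group G] [Group G'] [MulAction G Ω] [MulAction G' Ω']

/-- A faithful action and an action whose generating sets intertwine: the group generated on the faithful
side is the permutation group induced on the other side. -/
theorem closure_iso_map [FaithfulSMul G Ω] (e : Ω ≃ Ω') {S : Set G} {S' : Set G'}
    (h1 : ∀ s ∈ S, ∃ s' ∈ S', ∀ x, e (s • x) = s' • e x)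
    (h2 : ∀ s' ∈ S', ∃ s ∈ S, ∀ x, e (s • x) = s' • e x) :
    Nonempty (↥(Subgroup.closure S) ≃* ↥((Subgroup.closure S').map (toPermHom G' Ω'))) := by
  let r : G →* Equiv.Perm Ω' := e.permCongrHom.toMonoidHom.comp (toPermHom G Ω)
  let r' : G' →* Equiv.Perm Ω' := toPermHom G' Ω'
  have hr : Function.Injective r := e.permCongrHom.injective.comp toPerm_injective
  have hrs : ∀ s s', (∀ x, e (s • x) = s' • e x) → r s = r' s' := by
    intro s s' h
    refine Equiv.ext fun y => ?_
    have := h (e.symm y)
    rw [Equiv.apply_symm_apply] at this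
    simpa [r, r'] using this
  have himg : r '' S = r' '' S' := by
    ext z
    constructor
    · rintro ⟨s, hs, rfl⟩
      obtain ⟨s', hs', h⟩ := h1 s hs
      exact ⟨s', hs', (hrs s s' h).symm⟩
    · rintro ⟨s', hs', rfl⟩
      obtain ⟨s, hs, h⟩ := h2 s' hs'
      exact ⟨s, hs, hrs s s' h⟩
  refine ⟨(Subgroup.equivMapOfInjective _ r hr).trans (MulEquiv.subgroupCongr ?_)⟩
  rw [MonoidHom.map_closure, MonoidHom.map_closure, himg]

/-- Two faithful actions whose generating sets intertwine give isomorphic groups. -/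
theorem closure_iso [FaithfulSMul G Ω] [FaithfulSMul G' Ω'] (e : Ω ≃ Ω') {S : Set G} {S' : Set G'}
    (h1 : ∀ s ∈ S, ∃ s' ∈ S', ∀ x, e (s • x) = s' • e x)
    (h2 : ∀ s' ∈ S', ∃ s ∈ S, ∀ x, e (s • x) = s' • e x) :
    Nonempty (↥(Subgroup.closure S) ≃* ↥(Subgroup.closure S')) := by
  obtain ⟨i⟩ := closure_iso_map e h1 h2
  exact ⟨i.trans (Subgroup.equivMapOfInjective _ (toPermHom G' Ω') toPerm_injective).symm⟩

end Closure

section Pointed

/-- A point `a`, an involution `t` moving it and a subgroup `Q` fixing `a`, regular on the other points. -/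
structure IsPointed (G Ω : Type*) [Group G] [MulAction G Ω] (a : Ω) (t : G) (Q : Subgroup G) :
    Prop where
  mul_self : t * t = 1
  move : t • a ≠ a
  fix : ∀ q ∈ Q, q • a = a
  regular : ∀ c, c ≠ a → ∃! q : Q, (q : G) • (t • a) = c

variable {G G' Ω Ω' : Type*} [Group G] [Group G'] [MulAction G Ω] [MulAction G' Ω']
  {a : Ω} {t : G} {Q : Subgroup G} {a' : Ω'} {t' : G'} {Q' : Subgroup G'}

/-- The parametrisation of the points by `Option Q`. -/
def pt (a : Ω) (t : G) (Q : Subgroup G) : Option Q → Ω
  | none => a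
  | some q => (q : G) • (t • a)

theorem pt_some_ne (h : IsPointed G Ω a t Q) (q : Q) : pt a t Q (some q) ≠ a := by
  intro e
  exact h.move (smul_left_cancel (q : G) (e.trans (h.fix _ q.2).symm))

theorem pt_bijective (h : IsPointed G Ω a t Q) : Function.Bijective (pt a t Q) := by
  constructor
  · rintro (_ | p) (_ | q) e
    · rfl
    · exact absurd e.symm (pt_some_ne h q)
    · exact absurd e (pt_some_ne h p)
    · exact congrArg some ((h.regular _ (pt_some_ne h q)).unique e rfl)
  · intro c
    by_cases hc : c = a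
    · exact ⟨none, hc.symm⟩
    · obtain ⟨q, hq, -⟩ := h.regular c hc
      exact ⟨some q, hq⟩

theorem pt_smul (h : IsPointed G Ω a t Q) (p : Q) (o : Option Q) :
    (p : G) • pt a t Q o = pt a t Q (o.map (p * ·)) := by
  cases o with
  | none => exact h.fix _ p.2
  | some q => simp [pt, mul_smul]

/-- An isomorphism of the regular subgroups carrying the map of `t` to that of `t'`: the group generated
on the faithful side is the permutation group induced on the other side. -/
theorem iso_map_of_tmap [FaithfulSMul G Ω] (h : IsPointed G Ω a t Q)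
    (h' : IsPointed G' Ω' a' t' Q') (φ : Q ≃* Q')
    (hmap : ∀ x y : Q, t • ((x : G) • (t • a)) = (y : G) • (t • a) →
      t' • ((φ x : G') • (t' • a')) = (φ y : G') • (t' • a')) :
    Nonempty (↥(Subgroup.closure ((Q : Set G) ∪ {t})) ≃*
      ↥((Subgroup.closure ((Q' : Set G') ∪ {t'})).map (toPermHom G' Ω'))) := by
  let e : Ω ≃ Ω' := ((Equiv.ofBijective _ (pt_bijective h)).symm.trans φ.toEquiv.optionCongr).trans
    (Equiv.ofBijective _ (pt_bijective h'))
  have he : ∀ o, e (pt a t Q o) = pt a' t' Q' (o.map φ) := by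
    intro o
    simp only [e, Equiv.trans_apply, Equiv.ofBijective_apply]
    rw [show pt a t Q o = Equiv.ofBijective _ (pt_bijective h) o from rfl, Equiv.symm_apply_apply]
    rfl
  have hQ : ∀ p : Q, ∀ x, e ((p : G) • x) = (φ p : G') • e x := by
    intro p x
    obtain ⟨o, rfl⟩ := (pt_bijective h).2 x
    rw [pt_smul h, he, he, pt_smul h', Option.map_map, Option.map_map]
    congr 2
    funext q
    simp
  have ht : ∀ x, e (t • x) = t' • e x := by
    intro x
    obtain ⟨o, rfl⟩ := (pt_bijective h).2 x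
    rcases o with _ | q
    · rw [he]
      have h1 : t • pt a t Q none = pt a t Q (some 1) := by simp [pt]
      rw [h1, he]
      simp [pt]
    · by_cases hq : t • pt a t Q (some q) = a
      · have hq1 : q = 1 := by
          apply (h.regular _ h.move).unique
          · have := congrArg (t • ·) hq
            simpa [pt, ← mul_smul t t, h.mul_self] using this
          · simp
        subst hq1
        have h1 : t • pt a t Q (some (1 : Q)) = pt a t Q none := by
          simp [pt, ← mul_smul, h.mul_self]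
        rw [h1, he, he]
        simp [pt, ← mul_smul, h'.mul_self]
      · obtain ⟨y, hy, -⟩ := h.regular _ hq
        have h1 : t • pt a t Q (some q) = pt a t Q (some y) := hy.symm
        rw [h1, he, he]
        exact (hmap q y hy.symm).symm
  refine closure_iso_map e ?_ ?_
  · rintro s (hs | rfl)
    · exact ⟨_, Or.inl (φ ⟨s, hs⟩).2, hQ ⟨s, hs⟩⟩
    · exact ⟨t', Or.inr rfl, ht⟩
  · rintro s' (hs | rfl)
    · refine ⟨_, Or.inl (φ.symm ⟨s', hs⟩).2, fun x => ?_⟩
      rw [hQ, φ.apply_symm_apply]
    · exact ⟨t, Or.inr rfl, ht⟩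

/-- An isomorphism of the regular subgroups carrying the map of `t` to that of `t'` extends. -/
theorem iso_of_tmap [FaithfulSMul G Ω] [FaithfulSMul G' Ω'] (h : IsPointed G Ω a t Q)
    (h' : IsPointed G' Ω' a' t' Q') (φ : Q ≃* Q')
    (hmap : ∀ x y : Q, t • ((x : G) • (t • a)) = (y : G) • (t • a) →
      t' • ((φ x : G') • (t' • a')) = (φ y : G') • (t' • a')) :
    Nonempty (↥(Subgroup.closure ((Q : Set G) ∪ {t})) ≃*
      ↥(Subgroup.closure ((Q' : Set G') ∪ {t'}))) := by
  obtain ⟨i⟩ := iso_map_of_tmap h h' φ hmap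
  exact ⟨i.trans (Subgroup.equivMapOfInjective _ (toPermHom G' Ω') toPerm_injective).symm⟩

end Pointed

section Setup

variable {G Ω : Type*} [Group G] [MulAction G Ω] {a : Ω} {t : G} {Q : Subgroup G}

theorem isPointed (hS : Cfsg.IsRankOneSetup G Ω a t Q) : IsPointed G Ω a t Q where
  mul_self := hS.mul_self
  move := H38.t_smul_ne hS
  fix := fun _ hq => H38.Q_fix hS hq
  regular := fun _ hc => H38.Q_regular hS (H38.t_smul_ne hS) hc

/-- `⟨Q, t⟩` is the normal closure of `Q`. -/
theorem closure_eq_normalClosure [Finite G] (hS : Cfsg.IsRankOneSetup G Ω a t Q) :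
    Subgroup.closure ((Q : Set G) ∪ {t}) = Subgroup.normalClosure (Q : Set G) := by
  have hQn : (Q : Set G) ⊆ Subgroup.normalClosure (Q : Set G) := Subgroup.subset_normalClosure
  refine le_antisymm ((Subgroup.closure_le _).2 (Set.union_subset hQn ?_)) ?_
  · rintro x rfl
    obtain ⟨P, hP⟩ := H38.exists_sylow_le_Q hS
    obtain ⟨s, hs⟩ := exists_prime_orderOf_dvd_card' (G := Q) 2 hS.even_card.two_dvd
    have hs' : orderOf (s : G) = 2 := by rw [Subgroup.orderOf_coe, hs]
    have hs1 : (s : G) ≠ 1 := fun h => by simp [h] at hs'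
    have hs2 : (s : G) * s = 1 := by rw [← pow_two, ← hs', pow_orderOf_eq_one]
    obtain ⟨g, hg⟩ := H38.invol_conj hS hs1 hs2 hS.ne_one hS.mul_self
    rw [← hg]
    exact Subgroup.normalClosure_normal.conj_mem _ (hQn s.2) g
  · set L := Subgroup.closure ((Q : Set G) ∪ {t})
    have hQL : ∀ q ∈ Q, q ∈ L := fun q hq => Subgroup.subset_closure (Or.inl hq)
    have htL : t ∈ L := Subgroup.subset_closure (Or.inr rfl)
    have hstab : ∀ x ∈ stabilizer G a, ∀ z ∈ Q, x * z * x⁻¹ ∈ L :=
      fun x hx z hz => hQL _ (hS.conj_mem x hx z hz)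
    rw [Subgroup.normalClosure, Subgroup.closure_le]
    intro z hz
    obtain ⟨w, hw, hwz⟩ := Group.mem_conjugatesOfSet_iff.1 hz
    obtain ⟨g, rfl⟩ := isConj_iff.1 hwz
    by_cases hg : g ∈ stabilizer G a
    · exact hstab g hg w hw
    · -- write `g⁻¹ = x * t * y`, so `g = y⁻¹ * t * x⁻¹`
      obtain ⟨x, hx, y, hy, e⟩ := H38.canon_exists hS (g := g⁻¹)
        (fun h => hg (by simpa using inv_mem h))
      have e' : g = y⁻¹ * t * x⁻¹ := by
        rw [← inv_inj, e]; simp [H38.t_inv hS, mul_assoc]
      have h1 : x⁻¹ * w * x⁻¹⁻¹ ∈ L := hstab _ (inv_mem hx) w hw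
      have h2 : y⁻¹ * t ∈ L := mul_mem (inv_mem (hQL y hy)) htL
      have := mul_mem (mul_mem h2 h1) (inv_mem h2)
      rw [e']
      simpa [mul_assoc, H38.t_inv hS] using this

theorem closure_normal [Finite G] (hS : Cfsg.IsRankOneSetup G Ω a t Q) :
    (Subgroup.closure ((Q : Set G) ∪ {t})).Normal := by
  rw [closure_eq_normalClosure hS]
  exact Subgroup.normalClosure_normal

theorem odd_index_closure [Finite G] (hS : Cfsg.IsRankOneSetup G Ω a t Q) :
    Odd (Subgroup.closure ((Q : Set G) ∪ {t})).index := by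
  obtain ⟨P, hP⟩ := H38.exists_sylow_le_Q hS
  have hle : (P : Subgroup G) ≤ Subgroup.closure ((Q : Set G) ∪ {t}) :=
    hP.trans fun q hq => Subgroup.subset_closure (Or.inl hq)
  have hd := Subgroup.index_dvd_of_le hle
  rw [← Nat.not_even_iff_odd, even_iff_two_dvd]
  exact fun h => P.not_dvd_index (h.trans hd)

end Setup

end Cfsg.Agent.H99.RankOne
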