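import Cfsg.Agent.H99.RankOne.Hecke
import Cfsg.Agent.CharBasic.Rep
import Cfsg.Agent.CharBasic.Orth
import Mathlib.LinearAlgebra.PID

/-!
# Rank one: the character of an idempotent of the Hecke algebra

If `u * v = |Q|`, `u - v = coef` and `u + v ≠ 0`, then `idem` is an idempotent spanning its corner, so
the trace of left translation on its ideal is a character `chi` on which class sums act as scalars.
-/

set_option autoImplicit false

namespace Cfsg.Agent.H99.RankOne.Hecke

open MulAction Finset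
open scoped ComplexConjugate Classical

universe u v

variable {G : Type u} {Ω : Type v} [Group G] [Fintype G] [MulAction G Ω] {a : Ω} {t : G}
  {Q : Subgroup G}
  (hS : Cfsg.IsRankOneSetup G Ω a t Q)
  (ω : ↥(stabilizer G a ⊓ stabilizer G (t • a)) →* ℂ)

/-- The two parameters. -/
structure IsParam (x y : ℂ) : Prop where
  mul : x * y = (Nat.card Q : ℂ)
  sub : x - y = coef hS ω
  add : x + y ≠ 0

/-- The idempotent. -/
noncomputable def idem (x y : ℂ) : G → ℂ :=
  ((x + y) * (Nat.card (stabilizer G a) : ℂ))⁻¹ • (fl hS ω + y • el hS ω)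

/-- The character. -/
noncomputable def chi (x y : ℂ) (g : G) : ℂ := ∑ h : G, idem hS ω x y (h⁻¹ * g⁻¹ * h)

variable {ω} (hω : IsGoodHom hS ω) {x y : ℂ} (hp : IsParam hS ω x y)
include hω

omit [Fintype G] in
theorem isBi_idem (x y : ℂ) : IsBi hS ω (idem hS ω x y) := by
  intro h hh g
  simp only [idem, Pi.smul_apply, Pi.add_apply, smul_eq_mul, (isBi_fl hS hω h hh g).1,
    (isBi_fl hS hω h hh g).2, (isBi_el hS h hh g).1, (isBi_el hS h hh g).2]
  constructor <;> ring

omit hω in
theorem conv_left {φ : G → ℂ} (hφ : IsBi hS ω φ) (ψ : G → ℂ) {h : G}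
    (hh : h ∈ stabilizer G a) (g : G) : conv φ ψ (h * g) = el hS ω h * conv φ ψ g := by
  simp only [conv, Finset.mul_sum]
  refine (Equiv.sum_comp (Equiv.mulLeft h) fun z => φ z * ψ (z⁻¹ * (h * g))).symm.trans ?_
  refine Finset.sum_congr rfl fun z _ => ?_
  simp only [Equiv.coe_mulLeft, (hφ h hh z).1, mul_inv_rev]
  rw [show z⁻¹ * h⁻¹ * (h * g) = z⁻¹ * g by group]
  ring

omit hω in
theorem conv_right (φ : G → ℂ) {ψ : G → ℂ} (hψ : IsBi hS ω ψ) {h : G}
    (hh : h ∈ stabilizer G a) (g : G) : conv φ ψ (g * h) = conv φ ψ g * el hS ω h := by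
  simp only [conv, Finset.sum_mul]
  refine Finset.sum_congr rfl fun z _ => ?_
  rw [← mul_assoc z⁻¹, (hψ h hh (z⁻¹ * g)).2]
  ring

include hp

theorem conv_fl_idem : conv (fl hS ω) (idem hS ω x y) =
    ((Nat.card (stabilizer G a) : ℂ) * x) • idem hS ω x y := by
  rw [idem, conv_smul_right, conv_add_right, conv_smul_right, conv_fl_fl hS hω,
    conv_el_right hS (isBi_fl hS hω)]
  funext g
  simp only [Pi.smul_apply, Pi.add_apply, smul_eq_mul, ← hp.mul, ← hp.sub]
  ring

omit hp in
theorem conv_el_idem (x y : ℂ) : conv (el hS ω) (idem hS ω x y) =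
    (Nat.card (stabilizer G a) : ℂ) • idem hS ω x y :=
  conv_el_left hS (isBi_idem hS hω x y)

/-- Convolution of an equivariant function with the idempotent is a multiple of it. -/
theorem conv_bi_idem {φ : G → ℂ} (hφ : IsBi hS ω φ) :
    ∃ k : ℂ, conv φ (idem hS ω x y) = k • idem hS ω x y := by
  refine ⟨φ 1 * (Nat.card (stabilizer G a) : ℂ) + φ t * ((Nat.card (stabilizer G a) : ℂ) * x), ?_⟩
  have h : φ = φ 1 • el hS ω + φ t • fl hS ω := funext fun g => IsBi.expand hS hφ g
  conv_lhs => rw [h]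
  rw [conv_add_left, conv_smul_left, conv_smul_left, conv_el_idem hS hω,
    conv_fl_idem hS hω hp, smul_smul, smul_smul, ← add_smul]

theorem conv_idem_idem : conv (idem hS ω x y) (idem hS ω x y) = idem hS ω x y := by
  conv_lhs => arg 1; rw [idem]
  rw [conv_smul_left, conv_add_left, conv_smul_left, conv_el_idem hS hω, conv_fl_idem hS hω hp,
    smul_smul, ← add_smul, smul_smul]
  have hH : (Nat.card (stabilizer G a) : ℂ) ≠ 0 := Nat.cast_ne_zero.2 Nat.card_pos.ne'
  rw [show ((x + y) * (Nat.card (stabilizer G a) : ℂ))⁻¹ *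
    ((Nat.card (stabilizer G a) : ℂ) * x + y * (Nat.card (stabilizer G a) : ℂ)) = 1 by
      have := hp.add
      field_simp, one_smul]

omit hω hp in
theorem conv_class_comm {c : G → ℂ} (hc : Cfsg.IsClassFunction G c) (φ : G → ℂ) :
    conv c φ = conv φ c := by
  funext g
  simp only [conv]
  refine Fintype.sum_equiv ((Equiv.inv G).trans (Equiv.mulRight g)) _ _ fun z => ?_
  show c z * φ (z⁻¹ * g) = φ (z⁻¹ * g) * c ((z⁻¹ * g)⁻¹ * g)
  rw [show (z⁻¹ * g)⁻¹ * g = g⁻¹ * z * g by group]
  have := hc z g⁻¹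
  rw [inv_inv] at this
  rw [this, mul_comm]

/-- A class function acts on the ideal of the idempotent as a scalar. -/
theorem conv_class_idem {c : G → ℂ} (hc : Cfsg.IsClassFunction G c) :
    ∃ k : ℂ, conv c (idem hS ω x y) = k • idem hS ω x y := by
  set E := idem hS ω x y with hE
  have h1 : conv c E = conv (conv E c) E := by
    rw [← conv_class_comm hc E, conv_assoc, conv_idem_idem hS hω hp]
  have hbi : IsBi hS ω (conv (conv E c) E) := fun h hh g =>
    ⟨by rw [conv_assoc]; exact conv_left hS (isBi_idem hS hω x y) _ hh g,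
      conv_right hS _ (isBi_idem hS hω x y) hh g⟩
  obtain ⟨k, hk⟩ := conv_bi_idem hS hω hp hbi
  refine ⟨k, ?_⟩
  rw [← hk, conv_assoc (conv E c) E E, conv_idem_idem hS hω hp, ← h1]

omit hω hp

/-- Right convolution by the idempotent. -/
noncomputable def projE (ω : ↥(stabilizer G a ⊓ stabilizer G (t • a)) →* ℂ) (x y : ℂ) :
    (G → ℂ) →ₗ[ℂ] (G → ℂ) where
  toFun φ := conv φ (idem hS ω x y)
  map_add' φ ψ := conv_add_left φ ψ _
  map_smul' k φ := conv_smul_left k φ _

/-- Left translation. -/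
def transl (g : G) : (G → ℂ) →ₗ[ℂ] (G → ℂ) where
  toFun φ := fun z => φ (g⁻¹ * z)
  map_add' _ _ := rfl
  map_smul' _ _ := rfl

theorem transl_conv (g : G) (φ ψ : G → ℂ) : transl g (conv φ ψ) = conv (transl g φ) ψ := by
  funext z
  simp only [transl, LinearMap.coe_mk, AddHom.coe_mk, conv]
  refine Fintype.sum_equiv (Equiv.mulLeft g) _ _ fun w => ?_
  simp [mul_assoc]

theorem transl_mem (g : G) :
    ∀ φ ∈ LinearMap.range (projE hS ω x y), transl g φ ∈ LinearMap.range (projE hS ω x y) := by
  rintro _ ⟨φ, rfl⟩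
  exact ⟨transl g φ, (transl_conv g φ _).symm⟩

/-- The representation on the ideal. -/
noncomputable def repE (ω : ↥(stabilizer G a ⊓ stabilizer G (t • a)) →* ℂ) (x y : ℂ) :
    Representation ℂ G (LinearMap.range (projE hS ω x y)) where
  toFun g := (transl g).restrict (transl_mem hS g)
  map_one' := LinearMap.ext fun φ => Subtype.ext (funext fun z => by
    simp [transl])
  map_mul' g h := LinearMap.ext fun φ => Subtype.ext (funext fun z => by
    simp [transl, mul_assoc])

include hω hp

theorem repE_trace (g : G) :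
    LinearMap.trace ℂ _ (repE hS ω x y g) = chi hS ω x y g := by
  have hf : ∀ φ, ((transl g).comp (projE hS ω x y)) φ ∈ LinearMap.range (projE hS ω x y) :=
    fun φ => transl_mem hS g _ ⟨φ, rfl⟩
  have h1 : repE hS ω x y g = ((transl g).comp (projE hS ω x y)).restrict fun φ _ => hf φ := by
    refine LinearMap.ext fun φ => Subtype.ext ?_
    obtain ⟨ψ, hψ⟩ := φ.2
    show transl g (φ : G → ℂ) = transl g (projE hS ω x y φ)
    rw [← hψ]
    show _ = transl g (conv (conv ψ _) _)
    rw [conv_assoc, conv_idem_idem hS hω hp]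
    rfl
  rw [h1, LinearMap.trace_restrict_eq_of_forall_mem _ _ hf,
    LinearMap.trace_eq_matrix_trace ℂ (Pi.basisFun ℂ G), Matrix.trace]
  refine Finset.sum_congr rfl fun h _ => ?_
  simp only [Matrix.diag, LinearMap.toMatrix_apply, Pi.basisFun_apply, Pi.basisFun_repr,
    LinearMap.comp_apply]
  show conv (Pi.single h 1) (idem hS ω x y) (g⁻¹ * h) = _
  rw [conv, Finset.sum_eq_single h]
  · simp [mul_assoc]
  · intro z _ hz; simp [hz]
  · simp

theorem isCharacter_chi : Cfsg.IsCharacter G (chi hS ω x y) := by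
  let b := Module.finBasis ℂ (LinearMap.range (projE hS ω x y))
  refine ⟨_, CharBasic.repConj b.equivFun (repE hS ω x y), funext fun g => ?_⟩
  rw [← repE_trace hS hω hp g]
  exact LinearMap.trace_conj' _ _

/-- Class sums are multiplicative on the character. -/
theorem chi_class_mul {c d : G → ℂ} (hc : Cfsg.IsClassFunction G c)
    (hd : Cfsg.IsClassFunction G d) :
    (∑ g : G, ∑ h : G, c g * d h * chi hS ω x y (g * h)) * chi hS ω x y 1 =
      (∑ g : G, c g * chi hS ω x y g) * (∑ h : G, d h * chi hS ω x y h) := by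
  obtain ⟨k, hk⟩ := conv_class_idem hS hω hp hc
  obtain ⟨l, hl⟩ := conv_class_idem hS hω hp hd
  have hsc : ∀ {c : G → ℂ} {k : ℂ}, Cfsg.IsClassFunction G c →
      conv c (idem hS ω x y) = k • idem hS ω x y →
      (∑ g : G, c g • repE hS ω x y g) = k • LinearMap.id := by
    intro c k hc hk
    refine LinearMap.ext fun φ => Subtype.ext ?_
    obtain ⟨ψ, hψ⟩ := φ.2
    have h2 : conv c (φ : G → ℂ) = k • (φ : G → ℂ) := by
      rw [← hψ]
      show conv c (conv ψ _) = k • conv ψ _
      rw [← conv_assoc, conv_class_comm hc, conv_assoc, hk, conv_smul_right]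
    simp only [LinearMap.sum_apply, LinearMap.smul_apply, LinearMap.id_apply, Submodule.coe_smul,
      AddSubmonoidClass.coe_finsetSum]
    rw [← h2]
    funext z
    simp [conv, repE, transl, Finset.sum_apply]
  have h1 := congrArg (LinearMap.trace ℂ _) (hsc hc hk)
  have h2 := congrArg (LinearMap.trace ℂ _) (hsc hd hl)
  have h3 := congrArg (LinearMap.trace ℂ _)
    (congrArg₂ (· * ·) (hsc hc hk) (hsc hd hl))
  have hone : LinearMap.trace ℂ _ (LinearMap.id : LinearMap.range (projE hS ω x y) →ₗ[ℂ] _) =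
      chi hS ω x y 1 := by
    rw [← repE_trace hS hω hp 1, map_one]; rfl
  simp only [map_sum, map_smul, smul_eq_mul, repE_trace hS hω hp, hone] at h1 h2
  simp only [Finset.sum_mul, Finset.mul_sum, smul_mul_smul_comm, ← map_mul, map_sum, map_smul,
    smul_eq_mul, repE_trace hS hω hp] at h3
  rw [Finset.sum_comm] at h3
  have hid : (LinearMap.id * LinearMap.id : LinearMap.range (projE hS ω x y) →ₗ[ℂ] _) =
    LinearMap.id := rfl
  rw [hid, hone] at h3
  rw [h3, h1, h2]
  ring

end Cfsg.Agent.H99.RankOne.Hecke
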