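import Cfsg.Agent.H99.RankOne.Param
import Cfsg.Agent.S1523
import Mathlib.GroupTheory.Nilpotent
import Mathlib.GroupTheory.PGroup

/-!
# Rank one: no odd prime divisor of `|Q|` divides `g`
-/

set_option autoImplicit false
set_option maxHeartbeats 800000
set_option linter.unusedSectionVars false
set_option linter.style.haveILetI false

namespace Cfsg.Agent.H99.RankOne.Hecke

open MulAction Finset
open scoped ComplexConjugate Classical

universe u v

/-- In a finite nilpotent group the centre of a Sylow subgroup is central. -/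
theorem sylow_center_central {K : Type u} [Group K] [Finite K] [Group.IsNilpotent K] {p : ℕ}
    [Fact p.Prime] (P : Sylow p K) {z : K} (hz : z ∈ (P : Subgroup K))
    (hzc : ∀ y ∈ (P : Subgroup K), y * z = z * y) (w : K) : w * z = z * w := by
  have htop : Subgroup.centralizer ({z} : Set K) = ⊤ := by
    refine Subgroup.eq_top_of_card_eq _ (Nat.dvd_antisymm (Subgroup.card_subgroup_dvd_card _) ?_)
    refine (Nat.dvd_iff_prime_pow_dvd_dvd _ _).2 fun r k hr hd => ?_
    haveI := Fact.mk hr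
    obtain ⟨R⟩ : Nonempty (Sylow r K) := inferInstance
    have hRle : (R : Subgroup K) ≤ Subgroup.centralizer ({z} : Set K) := by
      intro y hy
      rw [Subgroup.mem_centralizer_singleton_iff]
      by_cases hrp : r = p
      · subst hrp
        haveI : (R : Subgroup K).Normal := inferInstance
        haveI : (P : Subgroup K).Normal := inferInstance
        haveI := (Sylow.unique_of_normal P inferInstance)
        have hRP : R = P := Subsingleton.elim _ _
        exact hzc y (hRP ▸ hy)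
      · exact (Subgroup.commute_of_normal_of_disjoint _ _ inferInstance inferInstance
          (IsPGroup.disjoint_of_ne r p hrp _ _ R.isPGroup' P.isPGroup') y z hy hz).eq
    refine dvd_trans ?_ (Subgroup.card_dvd_of_le hRle)
    rw [Sylow.card_eq_multiplicity]
    exact pow_dvd_pow _ ((hr.pow_dvd_iff_le_factorization Nat.card_pos.ne').1 hd)
  have : w ∈ Subgroup.centralizer ({z} : Set K) := htop ▸ Subgroup.mem_top w
  exact Subgroup.mem_centralizer_singleton_iff.1 this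

variable {G : Type u} {Ω : Type v} [Group G] [Fintype G] [MulAction G Ω] {a : Ω} {t : G}
  {Q : Subgroup G}
  (hS : Cfsg.IsRankOneSetup G Ω a t Q)

include hS

/-- A central element of `Q` of `p`-power order fixed by a Sylow `p`-subgroup of `D`. -/
theorem exists_fixed_central (hnil : Group.IsNilpotent Q) {p : ℕ} [Fact p.Prime]
    (hpQ : p ∣ Nat.card Q) : ∃ P R : Subgroup G, ∃ z : G, P ≤ Q ∧ IsPGroup p P ∧
      ¬ p * Nat.card P ∣ Nat.card Q ∧ Nat.card P ∣ Nat.card Q ∧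
      R ≤ stabilizer G a ⊓ stabilizer G (t • a) ∧
      ¬ p ∣ (R.subgroupOf (stabilizer G a ⊓ stabilizer G (t • a))).index ∧
      z ∈ P ∧ z ≠ 1 ∧ (∀ w ∈ Q, w * z = z * w) ∧ ∀ r ∈ R, r * z * r⁻¹ = z := by
  obtain ⟨S⟩ : Nonempty (Sylow p Q) := inferInstance
  set P : Subgroup G := (S : Subgroup Q).map Q.subtype with hP
  have hPQ : P ≤ Q := Subgroup.map_subtype_le _
  have hPp : IsPGroup p P := S.isPGroup'.map _
  have hcardP : Nat.card P = Nat.card (S : Subgroup Q) := Subgroup.card_subtype _ _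
  obtain ⟨T⟩ : Nonempty (Sylow p ↥(stabilizer G a ⊓ stabilizer G (t • a))) := inferInstance
  set D := stabilizer G a ⊓ stabilizer G (t • a) with hD
  set R : Subgroup G := (T : Subgroup D).map D.subtype with hR
  have hPnorm : ∀ g ∈ stabilizer G a, ∀ x ∈ P, g * x * g⁻¹ ∈ P := by
    rintro g hg _ ⟨x, hx, rfl⟩
    let φ : Q ≃* Q :=
      { toFun := fun y => ⟨g * y * g⁻¹, hS.conj_mem g hg _ y.2⟩
        invFun := fun y => ⟨g⁻¹ * y * g, by
          simpa using hS.conj_mem g⁻¹ (inv_mem hg) _ y.2⟩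
        left_inv := fun y => Subtype.ext (by simp [mul_assoc])
        right_inv := fun y => Subtype.ext (by simp [mul_assoc])
        map_mul' := fun y y' => Subtype.ext (by simp [mul_assoc]) }
    haveI : (S : Subgroup Q).Normal := inferInstance
    haveI : Subsingleton (Sylow p Q) := by
      haveI := Sylow.unique_of_normal S inferInstance
      infer_instance
    have hchar : (S : Subgroup Q).Characteristic := Sylow.characteristic_of_subsingleton _
    exact ⟨φ x, (Subgroup.characteristic_iff_map_le.1 hchar φ) ⟨x, hx, rfl⟩, rfl⟩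
  -- the central part
  set Z : Subgroup G := P ⊓ Subgroup.centralizer (Q : Set G) with hZ
  have hpdvd : p ∣ Nat.card (S : Subgroup Q) := S.dvd_card_of_dvd_card hpQ
  have hZne : Z ≠ ⊥ := by
    haveI : Nontrivial (S : Subgroup Q) :=
      Finite.one_lt_card_iff_nontrivial.1 (lt_of_lt_of_le (Fact.out (p := p.Prime)).one_lt
        (Nat.le_of_dvd Nat.card_pos hpdvd))
    haveI := S.isPGroup'.center_nontrivial
    obtain ⟨⟨⟨z, hz⟩, hzc⟩, hz1⟩ := exists_ne (1 : Subgroup.center (S : Subgroup Q))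
    intro h
    have hzmem : (z : G) ∈ Z := by
      refine ⟨⟨z, hz, rfl⟩, Subgroup.mem_centralizer_iff.2 fun w hw => ?_⟩
      have := sylow_center_central S hz (fun y hy => congrArg Subtype.val
        (Subgroup.mem_center_iff.1 hzc ⟨y, hy⟩)) ⟨w, hw⟩
      exact congrArg Subtype.val this
    rw [h, Subgroup.mem_bot] at hzmem
    exact hz1 (Subtype.ext (Subtype.ext (Subtype.ext hzmem)))
  have hRD : R ≤ D := Subgroup.map_subtype_le _
  have hZnorm : ∀ g ∈ stabilizer G a, ∀ x ∈ Z, g * x * g⁻¹ ∈ Z := by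
    rintro g hg x ⟨hxP, hxc⟩
    refine ⟨hPnorm g hg x hxP, Subgroup.mem_centralizer_iff.2 fun w hw => ?_⟩
    have h1 := Subgroup.mem_centralizer_iff.1 hxc (g⁻¹ * w * g) (by
      simpa using hS.conj_mem g⁻¹ (inv_mem hg) w hw)
    calc w * (g * x * g⁻¹) = g * ((g⁻¹ * w * g) * x) * g⁻¹ := by group
      _ = g * (x * (g⁻¹ * w * g)) * g⁻¹ := by rw [h1]
      _ = g * x * g⁻¹ * w := by group
  letI : MulAction R Z :=
    { smul := fun r x => ⟨(r : G) * x * (r : G)⁻¹, hZnorm r (hRD r.2).1 x x.2⟩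
      one_smul := fun x => Subtype.ext (show ((1 : R) : G) * x * ((1 : R) : G)⁻¹ = x by simp)
      mul_smul := fun r r' x => Subtype.ext (show ((r * r' : R) : G) * x * ((r * r' : R) : G)⁻¹ =
        (r : G) * ((r' : G) * x * (r' : G)⁻¹) * (r : G)⁻¹ by simp [mul_assoc]) }
  have hRp : IsPGroup p R := T.isPGroup'.map _
  have hZp : IsPGroup p Z := hPp.to_le inf_le_left
  have hZdvd : p ∣ Nat.card Z := by
    haveI : Nontrivial Z := (Subgroup.nontrivial_iff_ne_bot _).2 hZne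
    obtain ⟨n, hn⟩ := (IsPGroup.iff_card.1 hZp)
    rcases n with _ | n
    · rw [pow_zero] at hn
      exact absurd hn (Finite.one_lt_card (α := Z)).ne'
    · rw [hn]; exact dvd_pow_self p n.succ_ne_zero
  have hfix : (1 : Z) ∈ fixedPoints R Z := fun r => Subtype.ext (show (r : G) * 1 * (r : G)⁻¹ = 1 by simp)
  obtain ⟨z, hz, hne⟩ := hRp.exists_fixed_point_of_prime_dvd_card_of_fixed_point Z hZdvd hfix
  refine ⟨P, R, z, hPQ, hPp, ?_, ?_, hRD, ?_, z.2.1, ?_, ?_, ?_⟩
  · rw [hcardP, Sylow.card_eq_multiplicity, ← pow_succ']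
    exact Nat.pow_succ_factorization_not_dvd Nat.card_pos.ne' Fact.out
  · rw [hcardP]; exact Subgroup.card_subgroup_dvd_card _
  · have : R.subgroupOf D = (T : Subgroup D) :=
      Subgroup.comap_map_eq_self_of_injective D.subtype_injective _
    rw [this]
    exact T.not_dvd_index
  · exact fun h => hne (Subtype.ext h.symm)
  · exact fun w hw => Subgroup.mem_centralizer_iff.1 z.2.2 w hw
  · exact fun r hr => congrArg Subtype.val (hz ⟨r, hr⟩)

local notation "DD" => ((stabilizer G a ⊓ stabilizer G (t • a) : Subgroup G))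

variable {ω : ↥(stabilizer G a ⊓ stabilizer G (t • a)) →* ℂ} (hω : IsGoodHom hS ω)
  {g α β : ℕ} (hg : 0 < g) (hα : 0 < α) (hβ : 0 < β) (hcop : α.Coprime β)
  (hdvd : α + β ∣ g * α + 1) (hp : IsParam hS ω ((g * α : ℕ) : ℂ) ((g * β : ℕ) : ℂ))

include hω hg hα hβ hcop hdvd hp

/-- The value at a central element and the degree differ by `g α β (g - k)`. -/
theorem chi_one_sub {k : ℕ} (hk : g * α + 1 = (α + β) * k) {z : G} (hz : z ∈ Q) (hz1 : z ≠ 1)
    (hc : ∀ w ∈ Q, w * z = z * w) :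
    chi hS ω ((g * α : ℕ) : ℂ) ((g * β : ℕ) : ℂ) z = ((β * k : ℕ) : ℂ) ∧
    chi hS ω ((g * α : ℕ) : ℂ) ((g * β : ℕ) : ℂ) 1 =
      ((β * k : ℕ) : ℂ) + ((g : ℂ) * α * β) * ((g : ℂ) - k) := by
  have hg' : (g : ℂ) ≠ 0 := Nat.cast_ne_zero.2 hg.ne'
  have hA : ((α : ℂ) + β) ≠ 0 := by exact_mod_cast (by omega : α + β ≠ 0)
  have hk' : (g : ℂ) * α + 1 = ((α : ℂ) + β) * k := by exact_mod_cast hk
  have hzi : ∀ w ∈ Q, w * z⁻¹ = z⁻¹ * w := fun w hw =>
    (Commute.inv_right (show Commute w z from hc w hw)).eq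
  rw [chi_Q hS hω hz hz1, conjSum_central hS hω hzi,
    kap_central hS hω hg hα hβ hcop hdvd hp (inv_mem hz) (inv_ne_one.2 hz1) hzi, mul_one,
    chi_one hS hω, ← hp.mul]
  push_cast
  rw [show (g : ℂ) * α + g * β = g * ((α : ℂ) + β) by ring]
  constructor
  · field_simp
    linear_combination (β : ℂ) * hk'
  · field_simp
    linear_combination (β : ℂ) * (1 - (g : ℂ) * α) * hk'

/-- No odd prime divisor of `|Q|` divides `g`. -/
theorem not_dvd_g (hnil : Group.IsNilpotent Q) {p : ℕ} [Fact p.Prime] (hpQ : p ∣ Nat.card Q)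
    (hp2 : p ≠ 2) : ¬ p ∣ g := by
  intro hpg
  obtain ⟨P, R, z, hPQ, hPp, hmax, hPdvd, hRD, hRidx, hzP, hz1, hzc, hRz⟩ :=
    exists_fixed_central hS hnil hpQ
  obtain ⟨ψ, hψdef⟩ : ∃ ψ : G → ℂ, ψ = chi hS ω ((g * α : ℕ) : ℂ) ((g * β : ℕ) : ℂ) := ⟨_, rfl⟩
  have hchar : Cfsg.IsCharacter G ψ := hψdef ▸ isCharacter_chi hS hω hp
  have hψc := CharBasic.IsChar.isClassFunction hchar
  have hψi : ∀ x, IsIntegral ℤ (ψ x) := CharBasic.IsChar.isIntegral hchar
  obtain ⟨k, hk⟩ := hdvd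
  have hdvd' : α + β ∣ g * α + 1 := ⟨k, hk⟩
  have hzQ : z ∈ Q := hPQ hzP
  have hzi : ∀ w ∈ Q, w * z⁻¹ = z⁻¹ * w := fun w hw =>
    (Commute.inv_right (show Commute w z from hzc w hw)).eq
  obtain ⟨hval, hdeg⟩ := chi_one_sub hS hω hg hα hβ hcop hdvd' hp hk hzQ hz1 hzc
  obtain ⟨hvali, -⟩ := chi_one_sub hS hω hg hα hβ hcop hdvd' hp hk (inv_mem hzQ)
    (inv_ne_one.2 hz1) hzi
  let φD : ↥(DD : Subgroup G) →* Equiv.Perm G :=
    { toFun := fun d => (MulAut.conj (d : G)).toEquiv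
      map_one' := by ext x; simp
      map_mul' := fun d e => by ext x; simp [mul_assoc] }
  let O : G → Finset G := fun w => Finset.univ.filter fun x => ∃ d ∈ DD, d * w * d⁻¹ = x
  have hOfix : ∀ w, w ∈ Q → w ≠ 1 → (∀ v ∈ Q, v * w = w * v) → ∀ x,
      (IsConj w x ∧ x ∈ stabilizer G a) ↔ x ∈ O w := by
    intro w hw hw1 hwc x
    simp only [O, Finset.mem_filter, Finset.mem_univ, true_and]
    constructor
    · rintro ⟨hc, hx⟩
      obtain ⟨y, rfl⟩ := isConj_iff.1 hc
      have h1 : w • (y⁻¹ • a) = y⁻¹ • a := by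
        have h : (y * w * y⁻¹) • a = a := hx
        rw [mul_smul, mul_smul, ← eq_inv_smul_iff] at h
        exact h
      have hy : y ∈ stabilizer G a := by
        have := H38.Q_fix_only hS hw hw1 h1
        exact (show y • a = a by rw [inv_smul_eq_iff] at this; exact this.symm)
      obtain ⟨q, hq, d, hd, rfl⟩ := H38.exists_decomp hS hy
      refine ⟨d, hd, ?_⟩
      have hq' : Commute (d⁻¹ * q * d) w := hwc _ (by
        have := hS.conj_mem d⁻¹ (inv_mem hd.1) q hq
        rwa [inv_inv] at this)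
      calc d * w * d⁻¹ = d * (w * ((d⁻¹ * q * d) * (d⁻¹ * q * d)⁻¹)) * d⁻¹ := by
            rw [mul_inv_cancel, mul_one]
        _ = d * ((d⁻¹ * q * d) * w * (d⁻¹ * q * d)⁻¹) * d⁻¹ := by rw [hq'.eq, mul_assoc w]
        _ = q * d * w * (q * d)⁻¹ := by group
    · rintro ⟨d, hd, rfl⟩
      exact ⟨isConj_iff.2 ⟨d, rfl⟩, mul_mem (mul_mem hd.1 (hS.le hw)) (inv_mem hd.1)⟩
  have hOcentral : ∀ w, w ∈ Q → (∀ v ∈ Q, v * w = w * v) → ∀ x ∈ O w,
      x ∈ Q ∧ ∀ v ∈ Q, v * x = x * v := by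
    intro w hw hwc x hx
    obtain ⟨d, hd, rfl⟩ := (Finset.mem_filter.1 hx).2
    refine ⟨hS.conj_mem d hd.1 w hw, fun v hv => ?_⟩
    have h1 := hwc _ (show d⁻¹ * v * d ∈ Q by
      have := hS.conj_mem d⁻¹ (inv_mem hd.1) v hv
      rwa [inv_inv] at this)
    calc v * (d * w * d⁻¹) = d * ((d⁻¹ * v * d) * w) * d⁻¹ := by group
      _ = d * (w * (d⁻¹ * v * d)) * d⁻¹ := by rw [h1]
      _ = d * w * d⁻¹ * v := by group
  -- the orbit has order prime to `p`
  have hOcop : ¬ p ∣ (O z).card := fun h => hRidx (h.trans (S1523.card_orbit_dvd φD z (O z)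
    (fun x => by
      simp only [O, Finset.mem_filter, Finset.mem_univ, true_and]
      exact ⟨fun ⟨d, hd, e⟩ => ⟨⟨d, hd⟩, e⟩, fun ⟨d, e⟩ => ⟨d, d.2, e⟩⟩)
    (R.subgroupOf DD) (fun d hd => hRz _ (Subgroup.mem_subgroupOf.1 hd))))
  have hnotconj : ∀ d ∈ DD, d * z * d⁻¹ ≠ z⁻¹ := by
    intro d hd he
    obtain ⟨j, hj⟩ := hS.odd_card
    have h2 : Commute (d ^ 2) z := by
      show d ^ 2 * z = z * d ^ 2
      have e : d * z⁻¹ * d⁻¹ = z := by rw [← conj_inv, he, inv_inv]
      calc d ^ 2 * z = d * (d * z * d⁻¹) * d⁻¹ * d ^ 2 := by rw [pow_two]; group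
        _ = z * d ^ 2 := by rw [he, e]
    have hd' : d = (d ^ 2) ^ (j + 1) := by
      have := congrArg Subtype.val (pow_card_eq_one' (x := (⟨d, hd⟩ : ↥(DD : Subgroup G))))
      rw [hj] at this
      simp only [SubmonoidClass.coe_pow, OneMemClass.coe_one] at this
      rw [← pow_mul, show 2 * (j + 1) = (2 * j + 1) + 1 by ring, pow_succ, this, one_mul]
    have h3 : Commute d z := hd' ▸ h2.pow_left _
    have h4 : z ^ 2 = 1 := by
      rw [pow_two, ← mul_inv_cancel z, ← he, h3.eq, mul_inv_cancel_right]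
    obtain ⟨n, hn⟩ := hPp ⟨z, hzP⟩
    have h5 : orderOf z ∣ p ^ n := orderOf_dvd_of_pow_eq_one (congrArg Subtype.val hn)
    rcases (Nat.dvd_prime Nat.prime_two).mp (orderOf_dvd_of_pow_eq_one h4) with h6 | h6
    · exact hz1 (orderOf_eq_one_iff.mp h6)
    · rw [h6] at h5
      exact hp2 ((Nat.prime_dvd_prime_iff_eq Nat.prime_two Fact.out).1
        (Nat.prime_two.dvd_of_dvd_pow h5)).symm
  -- class sums
  let Kc : G → Finset G := fun w => Finset.univ.filter (fun x => IsConj w x)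
  let S : G → ℂ := fun w => ∑ x ∈ Kc z, ∑ y ∈ Kc w, ψ (x * y)
  have hS' : ∀ w, S w * ψ 1 = (((Subgroup.centralizer ({z} : Set G)).index : ℂ) * ψ z) *
      (((Subgroup.centralizer ({w} : Set G)).index : ℂ) * ψ w) := by
    intro w
    have h := chi_class_mul hS hω hp (H83.classInd_isClassFunction z)
      (H83.classInd_isClassFunction w)
    rw [← hψdef] at h
    rw [H83.sum_classInd_mul hψc, H83.sum_classInd_mul hψc, H83.classSize_eq_index,
      H83.classSize_eq_index] at h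
    rw [← h]
    congr 1
    simp only [S, Kc, H83.classInd, Finset.sum_filter, ite_mul, mul_ite, one_mul, zero_mul,
      mul_zero]
    refine Finset.sum_congr rfl fun x _ => ?_
    split_ifs <;> simp
  have hCinv : Subgroup.centralizer ({z⁻¹} : Set G) = Subgroup.centralizer ({z} : Set G) := by
    ext x
    simp only [Subgroup.mem_centralizer_singleton_iff]
    exact ⟨fun h => by simpa using (Commute.inv_right (show Commute x z⁻¹ from h)).eq,
      fun h => (Commute.inv_right (show Commute x z from h)).eq⟩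
  have hne : ψ 1 ≠ 0 := by
    rw [hψdef, chi_one hS hω]
    have hgα : 0 < g * α := Nat.mul_pos hg hα
    have hgβ : 0 < g * β := Nat.mul_pos hg hβ
    exact div_ne_zero (mul_ne_zero (by exact_mod_cast (by omega : Nat.card Q + 1 ≠ 0))
      (by exact_mod_cast hgβ.ne')) (by exact_mod_cast (by omega : g * α + g * β ≠ 0))
  have hSS : S z = S z⁻¹ := by
    refine mul_right_cancel₀ hne ?_
    rw [hS', hS', hCinv, hψdef, hval, hvali]
  let φ : P →* Equiv.Perm (G × G) :=
    { toFun := fun u => Equiv.prodCongr (MulAut.conj (u : G)).toEquiv (MulAut.conj (u : G)).toEquiv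
      map_one' := by ext q <;> simp
      map_mul' := fun u v => by ext q <;> simp }
  have hsm : ∀ (u : P) (q : G × G),
      φ u q = ((u : G) * q.1 * (u : G)⁻¹, (u : G) * q.2 * (u : G)⁻¹) := fun _ _ => rfl
  have hfixa : ∀ u : P, ∀ x : G, (u : G) * x * (u : G)⁻¹ ∈ stabilizer G a ↔ x ∈ stabilizer G a := by
    intro u x
    rw [Subgroup.mul_mem_cancel_right _ (inv_mem (hS.le (hPQ u.2))),
      Subgroup.mul_mem_cancel_left _ (hS.le (hPQ u.2))]
  have hsplit : ∀ w, w ∈ Q → w ≠ 1 → (∀ v ∈ Q, v * w = w * v) → ∃ r : ℂ, IsIntegral ℤ r ∧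
      S w = (∑ x ∈ O z, ∑ y ∈ O w, ψ (x * y)) + (Nat.card P : ℂ) * r := by
    intro w hw hw1 hwc
    let s := (Kc z ×ˢ Kc w).filter (fun q => ¬ (q.1 ∈ stabilizer G a ∧ q.2 ∈ stabilizer G a))
    obtain ⟨r, hr, hsum⟩ : ∃ r : ℂ, IsIntegral ℤ r ∧
        ∑ q ∈ s, ψ (q.1 * q.2) = (Nat.card P : ℂ) * r := by
      refine S1523.dvd_sum_free φ s ?_ ?_ (fun q : G × G => ψ (q.1 * q.2)) ?_ (fun _ => hψi _)
      · intro u q hq
        simp only [s, Kc, Finset.mem_filter, Finset.mem_product, Finset.mem_univ, true_and] at hq ⊢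
        rw [hsm]
        refine ⟨⟨hq.1.1.trans (isConj_iff.2 ⟨_, rfl⟩), hq.1.2.trans (isConj_iff.2 ⟨_, rfl⟩)⟩, ?_⟩
        rw [hfixa, hfixa]
        exact hq.2
      · intro q hq u hu
        simp only [s, Kc, Finset.mem_filter, Finset.mem_product, Finset.mem_univ, true_and] at hq
        rw [hsm, Prod.ext_iff] at hu
        by_contra hu1
        have hu1' : (u : G) ≠ 1 := fun h => hu1 (Subtype.ext h)
        have hcomm : ∀ x : G, (u : G) * x * (u : G)⁻¹ = x → x ∈ stabilizer G a := by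
          intro x hx
          have h : (u : G) • (x • a) = x • a := by
            rw [← mul_smul, mul_inv_eq_iff_eq_mul.1 hx, mul_smul, H38.Q_fix hS (hPQ u.2)]
          exact H38.Q_fix_only hS (hPQ u.2) hu1' h
        exact hq.2 ⟨hcomm _ hu.1, hcomm _ hu.2⟩
      · intro u q
        simp only [hsm]
        rw [show (u : G) * q.1 * (u : G)⁻¹ * ((u : G) * q.2 * (u : G)⁻¹) =
          (u : G) * (q.1 * q.2) * (u : G)⁻¹ by group]
        exact hψc _ _
    refine ⟨r, hr, ?_⟩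
    rw [← hsum]
    simp only [S]
    rw [← Finset.sum_product' (Kc z) (Kc w), ← Finset.sum_product' (O z) (O w),
      ← Finset.sum_filter_add_sum_filter_not (Kc z ×ˢ Kc w)
        (fun q => q.1 ∈ stabilizer G a ∧ q.2 ∈ stabilizer G a)]
    congr 1
    refine Finset.sum_congr ?_ fun _ _ => rfl
    ext q
    simp only [Kc, Finset.mem_filter, Finset.mem_product, Finset.mem_univ, true_and,
      ← hOfix z hzQ hz1 hzc, ← hOfix w hw hw1 hwc]
    tauto
  obtain ⟨r₁, hr₁, e₁⟩ := hsplit z hzQ hz1 hzc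
  obtain ⟨r₂, hr₂, e₂⟩ := hsplit z⁻¹ (inv_mem hzQ) (inv_ne_one.2 hz1) hzi
  -- the central parts
  have hOinv : O z⁻¹ = (O z).image (·⁻¹) := by
    ext x
    simp only [O, Finset.mem_filter, Finset.mem_univ, true_and, Finset.mem_image]
    constructor
    · rintro ⟨d, hd, rfl⟩
      exact ⟨d * z * d⁻¹, ⟨d, hd, rfl⟩, by group⟩
    · rintro ⟨y, ⟨d, hd, rfl⟩, rfl⟩
      exact ⟨d, hd, by group⟩
  have hterm : ∀ x ∈ O z, ∀ y, (y ∈ O z ∨ y ∈ O z⁻¹) →
      ψ (x * y) = ψ z + if x * y = 1 then ψ 1 - ψ z else 0 := by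
    intro x hx y hy
    split_ifs with h
    · rw [h]; ring
    obtain ⟨hxQ, hxc⟩ := hOcentral z hzQ hzc x hx
    obtain ⟨hyQ, hyc⟩ : y ∈ Q ∧ ∀ v ∈ Q, v * y = y * v := hy.elim (hOcentral z hzQ hzc y)
      (hOcentral z⁻¹ (inv_mem hzQ) hzi y)
    rw [add_zero, hψdef, hval, (chi_one_sub hS hω hg hα hβ hcop hdvd' hp hk (mul_mem hxQ hyQ) h
      fun v hv => by rw [← mul_assoc, hxc v hv, mul_assoc, hyc v hv, ← mul_assoc]).1]
  have hT1 : ∑ x ∈ O z, ∑ y ∈ O z, ψ (x * y) = ((O z).card : ℂ) * ((O z).card : ℂ) * ψ z := by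
    rw [Finset.sum_congr rfl fun x hx => Finset.sum_congr rfl fun y hy => hterm x hx y (Or.inl hy)]
    have h0 : ∀ x ∈ O z, ∀ y ∈ O z, x * y ≠ 1 := by
      intro x hx y hy h
      obtain ⟨d, hd, rfl⟩ := (Finset.mem_filter.1 hx).2
      obtain ⟨e, he, rfl⟩ := (Finset.mem_filter.1 hy).2
      refine hnotconj (d⁻¹ * e) (mul_mem (inv_mem hd) he) ?_
      have h' : e * z * e⁻¹ = (d * z * d⁻¹)⁻¹ := eq_inv_of_mul_eq_one_right h
      calc d⁻¹ * e * z * (d⁻¹ * e)⁻¹ = d⁻¹ * (e * z * e⁻¹) * d := by group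
        _ = z⁻¹ := by rw [h']; group
    rw [Finset.sum_congr rfl fun x hx => Finset.sum_congr rfl fun y hy => by
      rw [if_neg (h0 x hx y hy), add_zero]]
    simp; ring
  have hT2 : ∑ x ∈ O z, ∑ y ∈ O z⁻¹, ψ (x * y) =
      ((O z).card : ℂ) * ((O z).card : ℂ) * ψ z + ((O z).card : ℂ) * (ψ 1 - ψ z) := by
    rw [Finset.sum_congr rfl fun x hx => Finset.sum_congr rfl fun y hy => hterm x hx y (Or.inr hy)]
    have h1 : ∀ x ∈ O z, (∑ y ∈ O z⁻¹, if x * y = 1 then ψ 1 - ψ z else 0) = ψ 1 - ψ z := by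
      intro x hx
      rw [Finset.sum_eq_single x⁻¹]
      · simp
      · intro y _ hy
        exact if_neg fun h => hy (eq_inv_of_mul_eq_one_right h)
      · intro h
        exact absurd (hOinv ▸ Finset.mem_image_of_mem _ hx) h
    simp only [Finset.sum_add_distrib]
    rw [Finset.sum_congr rfl h1]
    simp [hOinv, Finset.card_image_of_injective _ inv_injective]
    ring
  have hdiff : (Nat.card P : ℂ) * (r₁ - r₂) =
      ((((O z).card : ℤ) * ((g : ℤ) * α * β * ((g : ℤ) - k)) : ℤ) : ℂ) := by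
    have he : ψ 1 - ψ z = (g : ℂ) * α * β * ((g : ℂ) - k) := by
      rw [hψdef, hval, hdeg]; ring
    rw [e₁, e₂, hT1, hT2, he] at hSS
    push_cast
    linear_combination hSS
  have hdiv := H83.int_dvd_of_isIntegral (hr₁.sub hr₂) (n := (Nat.card P : ℤ))
    (m := ((O z).card : ℤ) * ((g : ℤ) * α * β * ((g : ℤ) - k)))
    (by exact_mod_cast Nat.card_pos.ne') (by exact_mod_cast hdiff)
  -- strip the factors prime to `p`
  obtain ⟨n, hn⟩ := IsPGroup.iff_card.1 hPp
  have hpZ : Prime (p : ℤ) := Nat.prime_iff_prime_int.1 Fact.out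
  have hk0 : ¬ (p : ℤ) ∣ ((g : ℤ) - k) := by
    intro h
    have h1 : (p : ℤ) ∣ (k : ℤ) := by
      have := (Int.natCast_dvd_natCast.2 hpg).sub h
      simpa using this
    have h2 : (p : ℤ) ∣ ((α + β) * k : ℕ) := by
      rw [Nat.cast_mul]; exact h1.mul_left _
    rw [← hk] at h2
    have h3 : p ∣ g * α + 1 := Int.natCast_dvd_natCast.1 h2
    have h4 : p ∣ 1 := (Nat.dvd_add_right (hpg.mul_right α)).1 h3
    exact (Fact.out (p := p.Prime)).ne_one (Nat.dvd_one.1 h4)
  rw [show ((O z).card : ℤ) * ((g : ℤ) * α * β * ((g : ℤ) - k)) =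
    ((g * α * β : ℕ) : ℤ) * (((O z).card : ℤ) * ((g : ℤ) - k)) by push_cast; ring] at hdiv
  have hcop' : ¬ (p : ℤ) ∣ ((O z).card : ℤ) * ((g : ℤ) - k) := fun h =>
    (hpZ.dvd_or_dvd h).elim (fun h => hOcop (Int.natCast_dvd_natCast.1 h)) hk0
  rw [hn, Nat.cast_pow] at hdiv
  have h1 : (p : ℤ) ^ n ∣ ((g * α * β : ℕ) : ℤ) := hpZ.pow_dvd_of_dvd_mul_right n hcop' hdiv
  rw [← Nat.cast_pow, ← hn] at h1
  apply hmax
  have hQ : Nat.card Q = g * (g * α * β) := by
    have := hp.mul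
    rw [← Nat.cast_mul] at this
    rw [← Nat.cast_injective this]
    ring
  rw [hQ]
  exact Nat.mul_dvd_mul hpg (Int.natCast_dvd_natCast.1 h1)

end Cfsg.Agent.H99.RankOne.Hecke
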