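import Cfsg.Agent.H38.RankOne
import Mathlib.Analysis.Complex.Polynomial.Basic
import Mathlib.GroupTheory.OrderOfElement

/-!
# Rank one: the two-dimensional Hecke algebra of a linear character of the two-point stabiliser

A homomorphism `ω : D →* ℂ` invariant under `t` extends to `G_a` (trivially on `Q`); the functions on
`G` equivariant on both sides under `G_a` are spanned by `el` and `fl`, and `fl * fl` is a
combination of these.
-/

set_option autoImplicit false

namespace Cfsg.Agent.H99.RankOne.Hecke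

open MulAction Finset
open scoped ComplexConjugate Classical

universe u v

variable {G : Type u} {Ω : Type v} [Group G] [MulAction G Ω] {a : Ω} {t : G} {Q : Subgroup G}

/-- A homomorphism of the two-point stabiliser invariant under `t`. -/
structure IsGoodHom (hS : Cfsg.IsRankOneSetup G Ω a t Q)
    (ω : ↥(stabilizer G a ⊓ stabilizer G (t • a)) →* ℂ) : Prop where
  inv_t : ∀ d : ↥(stabilizer G a ⊓ stabilizer G (t • a)),
    ω ⟨t * (d : G) * t⁻¹, H38.t_mem_normalizer_D hS d.2⟩ = ω d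

variable (hS : Cfsg.IsRankOneSetup G Ω a t Q)
  (ω : ↥(stabilizer G a ⊓ stabilizer G (t • a)) →* ℂ)

/-- The two-point component of an element of the one-point stabiliser. -/
noncomputable def dPart (g : stabilizer G a) : ↥(stabilizer G a ⊓ stabilizer G (t • a)) :=
  ⟨(H38.exists_decomp hS g.2).choose_spec.2.choose,
    (H38.exists_decomp hS g.2).choose_spec.2.choose_spec.1⟩

theorem exists_qd (g : stabilizer G a) : ∃ q ∈ Q, (g : G) = q * (dPart hS g : G) :=
  ⟨_, (H38.exists_decomp hS g.2).choose_spec.1,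
    (H38.exists_decomp hS g.2).choose_spec.2.choose_spec.2⟩

theorem dPart_eq (g : stabilizer G a) {q : G} (hq : q ∈ Q)
    (d : ↥(stabilizer G a ⊓ stabilizer G (t • a))) (h : (g : G) = q * (d : G)) :
    dPart hS g = d := by
  obtain ⟨q', hq', e⟩ := exists_qd hS g
  exact Subtype.ext (H38.decomp_unique hS hq' hq (dPart hS g).2 d.2 (e.symm.trans h)).2

/-- The extension of `ω` to the one-point stabiliser. -/
noncomputable def lam : stabilizer G a →* ℂ :=
  ω.comp
    { toFun := dPart hS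
      map_one' := dPart_eq hS 1 Q.one_mem 1 (by simp)
      map_mul' := fun x y => by
        obtain ⟨q, hq, e⟩ := exists_qd hS x
        obtain ⟨q', hq', e'⟩ := exists_qd hS y
        refine dPart_eq hS _ (mul_mem hq (hS.conj_mem _ (dPart hS x).2.1 _ hq')) _ ?_
        show (x : G) * (y : G) = _
        rw [e, e']
        simp [mul_assoc] }

theorem lam_of_mem_Q (g : stabilizer G a) (hg : (g : G) ∈ Q) : lam hS ω g = 1 := by
  show ω (dPart hS g) = 1
  rw [dPart_eq hS g hg 1 (by simp), map_one]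

theorem lam_of_mem_D (d : ↥(stabilizer G a ⊓ stabilizer G (t • a))) :
    lam hS ω ⟨d, d.2.1⟩ = ω d := by
  show ω (dPart hS _) = ω d
  rw [dPart_eq hS _ Q.one_mem d (one_mul _).symm]

/-- `lam` on `G_a`, zero elsewhere. -/
noncomputable def el (g : G) : ℂ := if h : g ∈ stabilizer G a then lam hS ω ⟨g, h⟩ else 0

/-- The function supported off `G_a` with value `lam h` at `h t y`. -/
noncomputable def fl (g : G) : ℂ :=
  if h : g ∈ stabilizer G a then 0
  else lam hS ω ⟨(H38.canon_exists hS h).choose, (H38.canon_exists hS h).choose_spec.1⟩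

theorem el_of_mem {g : G} (h : g ∈ stabilizer G a) : el hS ω g = lam hS ω ⟨g, h⟩ := dif_pos h

theorem el_of_not_mem {g : G} (h : g ∉ stabilizer G a) : el hS ω g = 0 := dif_neg h

theorem el_one : el hS ω 1 = 1 := by
  rw [el_of_mem hS ω (one_mem _)]; exact map_one (lam hS ω)

theorem el_of_mem_Q {q : G} (hq : q ∈ Q) : el hS ω q = 1 := by
  rw [el_of_mem hS ω (hS.le hq)]; exact lam_of_mem_Q hS ω _ hq

theorem el_mul {g h : G} (hg : g ∈ stabilizer G a) (hh : h ∈ stabilizer G a) :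
    el hS ω (g * h) = el hS ω g * el hS ω h := by
  rw [el_of_mem hS ω hg, el_of_mem hS ω hh, el_of_mem hS ω (mul_mem hg hh), ← map_mul]
  rfl

theorem el_inv_mul {g : G} (hg : g ∈ stabilizer G a) : el hS ω g⁻¹ * el hS ω g = 1 := by
  rw [← el_mul hS ω (inv_mem hg) hg, inv_mul_cancel, el_one]

theorem el_mul_inv {g : G} (hg : g ∈ stabilizer G a) : el hS ω g * el hS ω g⁻¹ = 1 := by
  rw [← el_mul hS ω hg (inv_mem hg), mul_inv_cancel, el_one]

include hS in
theorem not_mem_canon {h y : G} (hh : h ∈ stabilizer G a) (hy : y ∈ Q) :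
    h * t * y ∉ stabilizer G a := by
  intro hm
  apply hS.not_mem
  have := mul_mem (mul_mem (inv_mem hh) hm) (inv_mem (hS.le hy))
  simpa [mul_assoc] using this

theorem fl_of_mem {g : G} (h : g ∈ stabilizer G a) : fl hS ω g = 0 := dif_pos h

theorem fl_canon {h y : G} (hh : h ∈ stabilizer G a) (hy : y ∈ Q) :
    fl hS ω (h * t * y) = el hS ω h := by
  have hn := not_mem_canon hS hh hy
  rw [fl, dif_neg hn, el_of_mem hS ω hh]
  obtain ⟨-, y', hy', e⟩ := (H38.canon_exists hS hn).choose_spec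
  exact congrArg (lam hS ω) (Subtype.ext
    (H38.canon_unique hS (H38.canon_exists hS hn).choose_spec.1 hh hy' hy e.symm).1)

theorem fl_t : fl hS ω t = 1 := by
  have := fl_canon hS ω (one_mem (stabilizer G a)) Q.one_mem
  rwa [one_mul, mul_one, el_one] at this

theorem fl_left {h g : G} (hh : h ∈ stabilizer G a) :
    fl hS ω (h * g) = el hS ω h * fl hS ω g := by
  by_cases hg : g ∈ stabilizer G a
  · rw [fl_of_mem hS ω hg, fl_of_mem hS ω (mul_mem hh hg), mul_zero]
  obtain ⟨x, hx, y, hy, rfl⟩ := H38.canon_exists hS hg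
  rw [show h * (x * t * y) = h * x * t * y by group, fl_canon hS ω (mul_mem hh hx) hy,
    fl_canon hS ω hx hy, el_mul hS ω hh hx]

variable {ω} (hω : IsGoodHom hS ω)

include hω

theorem el_conj_t {d : G} (hd : d ∈ stabilizer G a ⊓ stabilizer G (t • a)) :
    el hS ω (t * d * t⁻¹) = el hS ω d := by
  rw [el_of_mem hS ω (H38.t_mem_normalizer_D hS hd).1, el_of_mem hS ω hd.1]
  exact (lam_of_mem_D hS ω ⟨_, H38.t_mem_normalizer_D hS hd⟩).trans
    ((hω.inv_t ⟨d, hd⟩).trans (lam_of_mem_D hS ω ⟨d, hd⟩).symm)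

theorem fl_right {h g : G} (hh : h ∈ stabilizer G a) :
    fl hS ω (g * h) = fl hS ω g * el hS ω h := by
  by_cases hg : g ∈ stabilizer G a
  · rw [fl_of_mem hS ω hg, fl_of_mem hS ω (mul_mem hg hh), zero_mul]
  obtain ⟨x, hx, y, hy, rfl⟩ := H38.canon_exists hS hg
  obtain ⟨q, hq, d, hd, rfl⟩ := H38.exists_decomp hS hh
  have hd' := H38.t_mem_normalizer_D hS hd
  have hy' : d⁻¹ * (y * q) * d ∈ Q := by
    have := hS.conj_mem d⁻¹ (inv_mem hd.1) _ (mul_mem hy hq)
    rwa [inv_inv] at this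
  rw [show x * t * y * (q * d) = x * (t * d * t⁻¹) * t * (d⁻¹ * (y * q) * d) by group,
    fl_canon hS ω (mul_mem hx hd'.1) hy', fl_canon hS ω hx hy, el_mul hS ω hx hd'.1,
    el_conj_t hS hω hd, el_mul hS ω (hS.le hq) hd.1, el_of_mem_Q hS ω hq, one_mul]

/-- Both-sided equivariance under `G_a`. -/
def IsBi (ω : ↥(stabilizer G a ⊓ stabilizer G (t • a)) →* ℂ) (φ : G → ℂ) : Prop :=
  ∀ h ∈ stabilizer G a, ∀ g : G, φ (h * g) = el hS ω h * φ g ∧ φ (g * h) = φ g * el hS ω h

theorem isBi_fl : IsBi hS ω (fl hS ω) :=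
  fun _ hh _ => ⟨fl_left hS ω hh, fl_right hS hω hh⟩

omit hω in
theorem isBi_el : IsBi hS ω (el hS ω) := by
  intro h hh g
  by_cases hg : g ∈ stabilizer G a
  · exact ⟨el_mul hS ω hh hg, el_mul hS ω hg hh⟩
  · have h1 : h * g ∉ stabilizer G a := fun hm => hg ((Subgroup.mul_mem_cancel_left _ hh).1 hm)
    have h2 : g * h ∉ stabilizer G a := fun hm => hg ((Subgroup.mul_mem_cancel_right _ hh).1 hm)
    rw [el_of_not_mem hS ω hg, el_of_not_mem hS ω h1, el_of_not_mem hS ω h2, mul_zero, zero_mul]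
    exact ⟨rfl, rfl⟩

omit hω in
/-- The equivariant functions are spanned by `el` and `fl`. -/
theorem IsBi.expand {φ : G → ℂ} (hφ : IsBi hS ω φ) (g : G) :
    φ g = φ 1 * el hS ω g + φ t * fl hS ω g := by
  by_cases hg : g ∈ stabilizer G a
  · rw [fl_of_mem hS ω hg, mul_zero, add_zero, mul_comm, ← (hφ g hg 1).1, mul_one]
  obtain ⟨x, hx, y, hy, rfl⟩ := H38.canon_exists hS hg
  rw [el_of_not_mem hS ω (not_mem_canon hS hx hy), mul_zero, zero_add, fl_canon hS ω hx hy,
    (hφ y (hS.le hy) (x * t)).2, (hφ x hx t).1, el_of_mem_Q hS ω hy]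
  ring

omit hω

variable [Fintype G]

/-- Convolution of functions on the group. -/
noncomputable def conv (φ ψ : G → ℂ) (g : G) : ℂ := ∑ x : G, φ x * ψ (x⁻¹ * g)

theorem conv_assoc (φ ψ θ : G → ℂ) : conv (conv φ ψ) θ = conv φ (conv ψ θ) := by
  funext g
  simp only [conv, Finset.sum_mul, Finset.mul_sum]
  rw [Finset.sum_comm]
  refine Finset.sum_congr rfl fun x _ => ?_
  refine (Equiv.sum_comp (Equiv.mulLeft x) fun y => φ x * ψ (x⁻¹ * y) * θ (y⁻¹ * g)).symm.trans ?_
  simp [mul_assoc]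

theorem conv_add_left (φ ψ θ : G → ℂ) : conv (φ + ψ) θ = conv φ θ + conv ψ θ := by
  funext g; simp [conv, add_mul, Finset.sum_add_distrib]

theorem conv_add_right (φ ψ θ : G → ℂ) : conv φ (ψ + θ) = conv φ ψ + conv φ θ := by
  funext g; simp [conv, mul_add, Finset.sum_add_distrib]

theorem conv_smul_left (c : ℂ) (φ ψ : G → ℂ) : conv (c • φ) ψ = c • conv φ ψ := by
  funext g; simp [conv, Finset.mul_sum, mul_assoc]

theorem conv_smul_right (c : ℂ) (φ ψ : G → ℂ) : conv φ (c • ψ) = c • conv φ ψ := by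
  funext g
  simp only [conv, Pi.smul_apply, smul_eq_mul, Finset.mul_sum]
  exact Finset.sum_congr rfl fun x _ => by ring

theorem isBi_conv {φ ψ : G → ℂ} (hφ : IsBi hS ω φ) (hψ : IsBi hS ω ψ) :
    IsBi hS ω (conv φ ψ) := by
  intro h hh g
  refine ⟨?_, ?_⟩
  · simp only [conv, Finset.mul_sum]
    refine (Equiv.sum_comp (Equiv.mulLeft h) fun x => φ x * ψ (x⁻¹ * (h * g))).symm.trans ?_
    refine Finset.sum_congr rfl fun x _ => ?_
    simp only [Equiv.coe_mulLeft, (hφ h hh x).1, mul_inv_rev]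
    rw [show x⁻¹ * h⁻¹ * (h * g) = x⁻¹ * g by group]
    ring
  · simp only [conv, Finset.sum_mul]
    refine Finset.sum_congr rfl fun x _ => ?_
    rw [← mul_assoc x⁻¹, (hψ h hh (x⁻¹ * g)).2]
    ring

theorem sum_el {Φ : G → ℂ} :
    ∑ x : G, el hS ω x * Φ x = ∑ h : stabilizer G a, el hS ω h * Φ (h : G) := by
  rw [← Finset.sum_subtype (Finset.univ.filter (· ∈ stabilizer G a)) (by simp)
    (fun x => el hS ω x * Φ x)]
  refine (Finset.sum_subset (Finset.filter_subset _ _) fun x _ hx => ?_).symm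
  rw [el_of_not_mem hS ω (fun h => hx (Finset.mem_filter.2 ⟨Finset.mem_univ _, h⟩)), zero_mul]

theorem conv_el_left {φ : G → ℂ} (hφ : IsBi hS ω φ) :
    conv (el hS ω) φ = (Nat.card (stabilizer G a) : ℂ) • φ := by
  funext g
  rw [conv, sum_el hS (Φ := fun x => φ (x⁻¹ * g)), Pi.smul_apply, smul_eq_mul,
    Nat.card_eq_fintype_card, ← Finset.card_univ, ← nsmul_eq_mul, ← Finset.sum_const]
  refine Finset.sum_congr rfl fun h _ => ?_
  rw [(hφ _ (inv_mem h.2) g).1, ← mul_assoc, el_mul_inv hS ω h.2, one_mul]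

theorem conv_el_right {φ : G → ℂ} (hφ : IsBi hS ω φ) :
    conv φ (el hS ω) = (Nat.card (stabilizer G a) : ℂ) • φ := by
  funext g
  have h1 : conv φ (el hS ω) g = ∑ x : G, el hS ω x * φ (g * x⁻¹) := by
    rw [conv]
    refine (Equiv.sum_comp (((Equiv.inv G).trans (Equiv.mulLeft g)))
      fun x => φ x * el hS ω (x⁻¹ * g)).symm.trans (Finset.sum_congr rfl fun x _ => ?_)
    simp [mul_comm]
  rw [h1, sum_el hS (Φ := fun x => φ (g * x⁻¹)), Pi.smul_apply, smul_eq_mul,
    Nat.card_eq_fintype_card, ← Finset.card_univ, ← nsmul_eq_mul, ← Finset.sum_const]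
  refine Finset.sum_congr rfl fun h _ => ?_
  rw [(hφ _ (inv_mem h.2) g).2, mul_comm (φ g), ← mul_assoc, el_mul_inv hS ω h.2, one_mul]

/-- The value of `t x t` in the canonical form. -/
noncomputable def kap (ω : ↥(stabilizer G a ⊓ stabilizer G (t • a)) →* ℂ) (x : G) : ℂ :=
  fl hS ω (t * x * t)

/-- The coefficient of the quadratic relation. -/
noncomputable def coef (ω : ↥(stabilizer G a ⊓ stabilizer G (t • a)) →* ℂ) : ℂ :=
  ∑ x : Q, kap hS ω x

theorem sum_fl {Φ : G → ℂ} : ∑ x : G, fl hS ω x * Φ x =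
    ∑ h : stabilizer G a, ∑ y : Q, el hS ω h * Φ ((h : G) * t * y) := by
  rw [← Fintype.sum_prod_type']
  refine (Finset.sum_bij_ne_zero (fun p _ _ => ((p.1 : G) * t * (p.2 : G))) (fun _ _ _ => Finset.mem_univ _)
    ?_ ?_ ?_).symm
  · intro p _ _ p' _ _ h
    obtain ⟨e1, e2⟩ := H38.canon_unique hS p.1.2 p'.1.2 p.2.2 p'.2.2 h
    exact Prod.ext (Subtype.ext e1) (Subtype.ext e2)
  · intro g _ hg
    have hgn : g ∉ stabilizer G a := fun h => hg (by rw [fl_of_mem hS ω h, zero_mul])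
    obtain ⟨x, hx, y, hy, rfl⟩ := H38.canon_exists hS hgn
    refine ⟨⟨⟨x, hx⟩, ⟨y, hy⟩⟩, Finset.mem_univ _, ?_, rfl⟩
    rwa [fl_canon hS ω hx hy] at hg
  · intro p _ _
    rw [fl_canon hS ω p.1.2 p.2.2]

omit [Fintype G] in
include hω in
theorem fl_mul_fl_inv {h y : G} (hh : h ∈ stabilizer G a) (hy : y ∈ Q) :
    el hS ω h * fl hS ω (h * t * y)⁻¹ = 1 := by
  rw [mul_inv_rev, mul_inv_rev, H38.t_inv hS, fl_left hS ω (inv_mem (hS.le hy)),
    fl_right hS hω (inv_mem hh), fl_t, el_of_mem_Q hS ω (inv_mem hy), one_mul, one_mul,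
    el_mul_inv hS ω hh]

include hω in
/-- The quadratic relation. -/
theorem conv_fl_fl : conv (fl hS ω) (fl hS ω) = (Nat.card (stabilizer G a) : ℂ) •
    ((Nat.card Q : ℂ) • el hS ω + coef hS ω • fl hS ω) := by
  have hbi := isBi_conv hS (isBi_fl hS hω) (isBi_fl hS hω)
  have h1 : conv (fl hS ω) (fl hS ω) 1 = (Nat.card (stabilizer G a) : ℂ) * Nat.card Q := by
    rw [conv, sum_fl hS (Φ := fun x => fl hS ω (x⁻¹ * 1))]
    simp only [mul_one, Nat.card_eq_fintype_card]
    rw [Finset.sum_congr rfl fun h _ => Finset.sum_congr rfl fun y _ =>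
      fl_mul_fl_inv hS hω h.2 y.2]
    simp
  have h2 : conv (fl hS ω) (fl hS ω) t = (Nat.card (stabilizer G a) : ℂ) * coef hS ω := by
    rw [conv, sum_fl hS (Φ := fun x => fl hS ω (x⁻¹ * t))]
    have hval : ∀ (h : stabilizer G a) (y : Q), el hS ω h * fl hS ω (((h : G) * t * y)⁻¹ * t) =
        el hS ω h * fl hS ω (t * (h : G)⁻¹ * t) := by
      intro h y
      rw [show ((h : G) * t * y)⁻¹ * t = (y : G)⁻¹ * (t * (h : G)⁻¹ * t) by
        rw [mul_inv_rev, mul_inv_rev, H38.t_inv hS]; group,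
        fl_left hS ω (inv_mem (hS.le y.2)), el_of_mem_Q hS ω (inv_mem y.2), one_mul]
    rw [Finset.sum_congr rfl fun h _ => Finset.sum_congr rfl fun y _ => hval h y]
    let e : Q × ↥(stabilizer G a ⊓ stabilizer G (t • a)) → stabilizer G a :=
      fun p => ⟨(p.1 : G) * p.2, mul_mem (hS.le p.1.2) p.2.2.1⟩
    have he : Function.Bijective e := by
      refine ⟨fun p p' h => ?_, fun g => ?_⟩
      · obtain ⟨e1, e2⟩ := H38.decomp_unique hS p.1.2 p'.1.2 p.2.2 p'.2.2 (congrArg Subtype.val h)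
        exact Prod.ext (Subtype.ext e1) (Subtype.ext e2)
      · obtain ⟨q, hq, d, hd, e'⟩ := H38.exists_decomp hS g.2
        exact ⟨(⟨q, hq⟩, ⟨d, hd⟩), Subtype.ext e'.symm⟩
    rw [← (Equiv.ofBijective e he).sum_comp, Fintype.sum_prod_type,
      Nat.card_congr (Equiv.ofBijective e he).symm, Nat.card_prod]
    have hterm : ∀ (q : Q) (d : ↥(stabilizer G a ⊓ stabilizer G (t • a))),
        el hS ω (e (q, d) : G) * fl hS ω (t * (e (q, d) : G)⁻¹ * t) = kap hS ω (q : G)⁻¹ := by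
      intro q d
      show el hS ω ((q : G) * d) * fl hS ω (t * ((q : G) * d)⁻¹ * t) = _
      rw [el_mul hS ω (hS.le q.2) d.2.1, el_of_mem_Q hS ω q.2, one_mul,
        show t * ((q : G) * d)⁻¹ * t = (t * (d : G)⁻¹ * t⁻¹) * (t * (q : G)⁻¹ * t) by group,
        fl_left hS ω (H38.t_mem_normalizer_D hS (inv_mem d.2)).1, el_conj_t hS hω (inv_mem d.2),
        ← mul_assoc, el_mul_inv hS ω d.2.1, one_mul]
      rfl
    simp only [Equiv.ofBijective_apply, hterm, Finset.sum_const, Finset.card_univ, nsmul_eq_mul,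
      ← Finset.mul_sum, Nat.card_eq_fintype_card]
    push_cast
    rw [coef, ← Fintype.sum_equiv (Equiv.inv Q) (fun q : Q => kap hS ω (q : G)⁻¹)
      (fun q : Q => kap hS ω q) (fun q => by simp)]
    ring
  funext g
  rw [IsBi.expand hS hbi g, h1, h2]
  simp only [Pi.smul_apply, Pi.add_apply, smul_eq_mul]
  ring

end Cfsg.Agent.H99.RankOne.Hecke
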