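import Cfsg.Agent.H99.RankOne.Values

/-!
# Rank one: the parameters are natural numbers `g α`, `g β` with `α + β ∣ g α + 1`, and the congruence
on the classes of `Q`
-/

set_option autoImplicit false
set_option linter.unusedSectionVars false

namespace Cfsg.Agent.H99.RankOne.Hecke

open MulAction Finset
open scoped ComplexConjugate Classical

universe u v

variable {G : Type u} {Ω : Type v} [Group G] [Fintype G] [MulAction G Ω] {a : Ω} {t : G}
  {Q : Subgroup G}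
  (hS : Cfsg.IsRankOneSetup G Ω a t Q)
  {ω : ↥(stabilizer G a ⊓ stabilizer G (t • a)) →* ℂ} (hω : IsGoodHom hS ω)

include hω

theorem exists_real_param : ∃ x y : ℝ, 0 < x ∧ 0 < y ∧ IsParam hS ω (x : ℂ) (y : ℂ) := by
  have hN : (0 : ℝ) < Nat.card Q := Nat.cast_pos.2 Nat.card_pos
  set c := (coef hS ω).re
  have hc : coef hS ω = (c : ℂ) := (Complex.conj_eq_iff_re.1 (conj_coef hS hω)).symm
  set r := Real.sqrt (c ^ 2 + 4 * Nat.card Q)
  have hr2 : r ^ 2 = c ^ 2 + 4 * Nat.card Q := Real.sq_sqrt (by positivity)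
  have hr0 : 0 ≤ r := Real.sqrt_nonneg _
  have h1 : |c| < r := abs_lt_of_sq_lt_sq (by nlinarith) hr0
  obtain ⟨h1a, h1b⟩ := abs_lt.1 h1
  refine ⟨(r + c) / 2, (r - c) / 2, by linarith, by linarith, ⟨?_, ?_, ?_⟩⟩
  · rw [← Complex.ofReal_mul, show (r + c) / 2 * ((r - c) / 2) = (Nat.card Q : ℝ) by
      linear_combination hr2 / 4]
    simp
  · rw [hc, ← Complex.ofReal_sub]; congr 1; ring
  · rw [← Complex.ofReal_add, Ne, Complex.ofReal_eq_zero]
    linarith

/-- The parameters are natural numbers. -/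
theorem exists_nat_param {s : G} (hs : s ∈ Cfsg.involutionsIn (stabilizer G a : Set G))
    (hsQ : s ∈ Q) (hsc : ∀ w ∈ Q, w * s = s * w) :
    ∃ m n : ℕ, 0 < m ∧ 0 < n ∧ IsParam hS ω (m : ℂ) (n : ℂ) := by
  obtain ⟨x, y, hx, hy, hp⟩ := exists_real_param hS hω
  obtain ⟨hsA, hs1, hs2⟩ := hs
  have hchar := isCharacter_chi hS hω hp
  have hone := chi_one hS hω (x : ℂ) (y : ℂ)
  obtain ⟨d, hd⟩ := H83.sum_subgroup_eq hchar (⊥ : Subgroup G)
  simp only [Fintype.sum_unique, Subgroup.card_bot, Nat.cast_one, one_mul] at hd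
  have hd' : chi hS ω (x : ℂ) y 1 = (d : ℂ) := hd
  have hord : orderOf s = 2 := orderOf_eq_prime (by rw [pow_two, hs2]) hs1
  obtain ⟨m, hm⟩ := H83.sum_subgroup_eq hchar (Subgroup.zpowers s)
  have hcard : Nat.card (Subgroup.zpowers s) = 2 := by rw [Nat.card_zpowers, hord]
  have hne : (1 : Subgroup.zpowers s) ≠ ⟨s, Subgroup.mem_zpowers s⟩ :=
    fun h => hs1 (congrArg Subtype.val h).symm
  have huniv : (Finset.univ : Finset (Subgroup.zpowers s)) = {1, ⟨s, Subgroup.mem_zpowers s⟩} := by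
    refine (Finset.eq_univ_of_card _ ?_).symm
    rw [Finset.card_pair hne, ← Nat.card_eq_fintype_card, hcard]
  rw [huniv, Finset.sum_pair hne, hcard, OneMemClass.coe_one, hd'] at hm
  have hsinv : s⁻¹ = s := inv_eq_of_mul_eq_one_right hs2
  have hval := chi_Q hS hω hsQ hs1 (x : ℂ) (y : ℂ)
  rw [hsinv, conjSum_central hS hω hsc, kap_invol hS hω ⟨hsA, hs1, hs2⟩, mul_one] at hval
  rw [hd', ← Complex.ofReal_natCast (Nat.card Q)] at hone
  rw [hval, ← Complex.ofReal_natCast (Nat.card Q)] at hm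
  set N : ℝ := (Nat.card Q : ℝ) with hNdef
  have hN : 0 < N := Nat.cast_pos.2 Nat.card_pos
  have hxy : (0 : ℝ) < x + y := by linarith
  have hone' : (d : ℝ) * (x + y) = (N + 1) * y := by
    have h : ((d : ℝ) : ℂ) = (((N + 1) * y / (x + y) : ℝ) : ℂ) := by push_cast; exact hone
    rw [Complex.ofReal_inj] at h
    rw [h, div_mul_cancel₀ _ hxy.ne']
  have hc' : ((2 * m : ℝ) - d) * (x + y) = y + N := by
    have h : (((2 * m : ℝ) - d : ℝ) : ℂ) = (((y + N) / (x + y) : ℝ) : ℂ) := by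
      push_cast
      linear_combination -hm
    rw [Complex.ofReal_inj] at h
    rw [h, div_mul_cancel₀ _ hxy.ne']
  -- rationality
  obtain ⟨qs, hqs⟩ : ∃ r : ℚ, x + y = (r : ℝ) := by
    refine ⟨((Nat.card Q : ℚ) + 1) * (Nat.card Q : ℚ) /
      (((Nat.card Q : ℚ) + 1) * (2 * m - d) - d), ?_⟩
    push_cast
    rw [← hNdef]
    have hkey : (x + y) * ((N + 1) * (2 * m - d) - d) = (N + 1) * N := by
      linear_combination (N + 1) * hc' - hone'
    rw [eq_div_iff (fun h => by rw [h, mul_zero] at hkey; nlinarith), hkey]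
  obtain ⟨qy, hqy⟩ : ∃ r : ℚ, y = (r : ℝ) := ⟨(2 * m - d) * qs - Nat.card Q, by
    push_cast; rw [← hqs, ← hNdef]; linarith⟩
  have hqx : x = ((qs - qy : ℚ) : ℝ) := by push_cast; linarith
  have hA : coef hS ω = (((qs - qy) - qy : ℚ) : ℂ) := by
    rw [← hp.sub, hqx, hqy]; push_cast; rfl
  obtain ⟨A, hA'⟩ := H43.int_of_rat_integral (isIntegral_coef hS hω) hA
  have hsub : x - y = (A : ℝ) := by
    have h := hp.sub
    rw [hA', ← Complex.ofReal_sub, ← Complex.ofReal_intCast, Complex.ofReal_inj] at h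
    exact h
  have hmul : x * y = N := by
    have h := hp.mul
    rw [← Complex.ofReal_mul, ← Complex.ofReal_natCast, Complex.ofReal_inj] at h
    exact h
  have hnat : ∀ (z : ℝ) (B : ℤ), 0 < z → (∃ r : ℚ, z = r) → z ^ 2 + (B : ℝ) * z = N →
      ∃ n : ℕ, 0 < n ∧ z = n := by
    intro z B hz ⟨r, hr⟩ heq
    have hint : IsIntegral ℤ ((r : ℚ) : ℂ) := by
      refine ⟨Polynomial.X ^ 2 + (Polynomial.C B * Polynomial.X -
        Polynomial.C (Nat.card Q : ℤ)), Polynomial.monic_X_pow_add ?_, ?_⟩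
      · refine (Polynomial.degree_sub_le _ _).trans_lt (max_lt ?_ ?_)
        · exact (Polynomial.degree_C_mul_X_le _).trans_lt (by norm_num)
        · exact Polynomial.degree_C_le.trans_lt (by norm_num)
      · rw [hr, hNdef] at heq
        have h' : (((r : ℝ) ^ 2 + (B : ℝ) * r : ℝ) : ℂ) = ((Nat.card Q : ℝ) : ℂ) :=
          congrArg _ heq
        push_cast at h'
        rw [Polynomial.eval₂_add, Polynomial.eval₂_sub, Polynomial.eval₂_mul, Polynomial.eval₂_pow,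
          Polynomial.eval₂_X, Polynomial.eval₂_C, Polynomial.eval₂_C]
        simp only [eq_intCast, Int.cast_natCast]
        linear_combination h'
    obtain ⟨k, hk⟩ := H43.int_of_rat_integral hint (q := r) rfl
    have hk' : r = (k : ℚ) := by exact_mod_cast hk
    have hz' : z = (k : ℝ) := by rw [hr, hk']; simp
    obtain ⟨n, rfl⟩ := Int.eq_ofNat_of_zero_le (a := k) (by exact_mod_cast (hz' ▸ hz).le)
    refine ⟨n, ?_, by simpa using hz'⟩
    exact_mod_cast (hz' ▸ hz)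
  obtain ⟨u₀, hu0, hu⟩ := hnat x (-A) hx ⟨_, hqx⟩ (by push_cast; rw [← hsub]; linear_combination hmul)
  obtain ⟨v₀, hv0, hv⟩ := hnat y A hy ⟨_, hqy⟩ (by rw [← hsub]; linear_combination hmul)
  refine ⟨u₀, v₀, hu0, hv0, ?_⟩
  rw [hu, hv] at hp
  simpa using hp

/-- The parameters in reduced form. -/
theorem exists_num {s : G} (hs : s ∈ Cfsg.involutionsIn (stabilizer G a : Set G))
    (hsQ : s ∈ Q) (hsc : ∀ w ∈ Q, w * s = s * w) :
    ∃ g α β : ℕ, 0 < g ∧ 0 < α ∧ 0 < β ∧ α.Coprime β ∧ α + β ∣ g * α + 1 ∧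
      IsParam hS ω ((g * α : ℕ) : ℂ) ((g * β : ℕ) : ℂ) := by
  obtain ⟨m, n, hm, hn, hp⟩ := exists_nat_param hS hω hs hsQ hsc
  obtain ⟨g, α, β, hg, hcop, rfl, rfl⟩ := Nat.exists_coprime' (Nat.gcd_pos_of_pos_left n hm)
  have hα : 0 < α := Nat.pos_of_mul_pos_right (by rwa [mul_comm] at hm ⊢)
  have hβ : 0 < β := Nat.pos_of_mul_pos_right (by rwa [mul_comm] at hn ⊢)
  refine ⟨g, α, β, hg, hα, hβ, hcop, ?_, by rwa [mul_comm g α, mul_comm g β]⟩
  obtain ⟨hsA, hs1, hs2⟩ := hs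
  have hsinv : s⁻¹ = s := inv_eq_of_mul_eq_one_right hs2
  have hval := chi_Q hS hω hsQ hs1 ((α * g : ℕ) : ℂ) ((β * g : ℕ) : ℂ)
  rw [hsinv, conjSum_central hS hω hsc, kap_invol hS hω ⟨hsA, hs1, hs2⟩, mul_one, ← hp.mul] at hval
  have hint := CharBasic.IsChar.isIntegral (isCharacter_chi hS hω hp) s
  have hg' : (g : ℂ) ≠ 0 := Nat.cast_ne_zero.2 hg.ne'
  have hA' : ((α + β : ℕ) : ℂ) ≠ 0 := Nat.cast_ne_zero.2 (by omega)
  have h2 : ((α + β : ℕ) : ℂ) * chi hS ω ((α * g : ℕ) : ℂ) ((β * g : ℕ) : ℂ) s =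
      ((β * (g * α + 1) : ℕ) : ℂ) := by
    rw [hval]
    push_cast at hA' ⊢
    rw [show ((α : ℂ) * g + β * g) = (α + β) * g by ring]
    field_simp
    ring
  have hdvd := H83.int_dvd_of_isIntegral hint (n := ((α + β : ℕ) : ℤ))
    (m := ((β * (g * α + 1) : ℕ) : ℤ)) (by exact_mod_cast (by omega : α + β ≠ 0))
    (by exact_mod_cast h2)
  refine (Nat.Coprime.dvd_of_dvd_mul_left ?_ (Int.natCast_dvd_natCast.1 hdvd))
  exact Nat.coprime_add_self_left.2 hcop

variable {g α β : ℕ} (hg : 0 < g) (hα : 0 < α) (hβ : 0 < β) (hcop : α.Coprime β)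
  (hdvd : α + β ∣ g * α + 1) (hp : IsParam hS ω ((g * α : ℕ) : ℂ) ((g * β : ℕ) : ℂ))

include hg hα hβ hcop hdvd hp

/-- The congruence: a class of `Q` of size at most half of `α + β` has trivial `kap`. -/
theorem kap_eq_one_of_small {q : G} (hq : q ∈ Q) (hq1 : q ≠ 1)
    (hsmall : 2 * Nat.card {x : G | ∃ w ∈ Q, w * q * w⁻¹ = x} ≤ α + β) : kap hS ω q = 1 := by
  set C := {x : G | ∃ w ∈ Q, w * q * w⁻¹ = x} with hC
  have hCQ : ∀ x ∈ C, x ∈ Q ∧ x ≠ 1 := by
    rintro x ⟨w, hw, rfl⟩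
    refine ⟨mul_mem (mul_mem hw hq) (inv_mem hw), fun h => hq1 ?_⟩
    simpa using h
  -- average over the class
  let σ : ℂ := ∑ x : C, kap hS ω (x : G)
  have hconst : ∀ x : C, conjSum hS ω (x : G) = conjSum hS ω q := by
    rintro ⟨x, w, hw, rfl⟩
    exact Fintype.sum_equiv (Equiv.mulRight (⟨w, hw⟩ : Q)) _ _ fun z => by simp [mul_assoc]
  have hperm : ∀ w : Q, ∑ x : C, kap hS ω ((w : G) * (x : G) * (w : G)⁻¹) = σ := by
    intro w
    let e : C ≃ C :=
      { toFun := fun x => ⟨(w : G) * x * (w : G)⁻¹, by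
          obtain ⟨z, hz, hzx⟩ := x.2
          exact ⟨w * z, mul_mem w.2 hz, by rw [← hzx]; group⟩⟩
        invFun := fun x => ⟨(w : G)⁻¹ * x * (w : G), by
          obtain ⟨z, hz, hzx⟩ := x.2
          exact ⟨(w : G)⁻¹ * z, mul_mem (inv_mem w.2) hz, by rw [← hzx]; group⟩⟩
        left_inv := fun x => Subtype.ext (by simp [mul_assoc])
        right_inv := fun x => Subtype.ext (by simp [mul_assoc]) }
    exact Fintype.sum_equiv e _ _ fun x => rfl
  have hsum : (Nat.card C : ℂ) * conjSum hS ω q = (Nat.card Q : ℂ) * σ := by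
    rw [Nat.card_eq_fintype_card, Nat.card_eq_fintype_card, ← Finset.card_univ, ← Finset.card_univ,
      ← nsmul_eq_mul, ← nsmul_eq_mul, ← Finset.sum_const, ← Finset.sum_const]
    calc ∑ _x : C, conjSum hS ω q = ∑ x : C, conjSum hS ω (x : G) :=
          Finset.sum_congr rfl fun x _ => (hconst x).symm
      _ = ∑ _w : Q, σ := by
          simp only [conjSum]
          rw [Finset.sum_comm]
          exact Finset.sum_congr rfl fun w _ => hperm w
  have hq' : q⁻¹ ∈ Q := inv_mem hq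
  have hchi := chi_Q hS hω hq' (inv_ne_one.2 hq1) ((g * α : ℕ) : ℂ) ((g * β : ℕ) : ℂ)
  rw [inv_inv] at hchi
  have hint := CharBasic.IsChar.isIntegral (isCharacter_chi hS hω hp) q⁻¹
  set A : ℂ := ((α + β : ℕ) : ℂ) with hA
  have hA0 : A ≠ 0 := Nat.cast_ne_zero.2 (by omega)
  have hg' : (g : ℂ) ≠ 0 := Nat.cast_ne_zero.2 hg.ne'
  obtain ⟨k, hk⟩ := hdvd
  have hk' : (g : ℂ) * α + 1 = A * k := by rw [hA]; exact_mod_cast hk
  have hσint : IsIntegral ℤ σ := IsIntegral.sum _ fun x _ => isIntegral_kap hS hω (hCQ x x.2).1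
  -- `β (|C| - σ) / A` is integral
  have h1 : IsIntegral ℤ ((β : ℂ) * (((Nat.card C : ℕ) : ℂ) - σ) / A) := by
    have e : (β : ℂ) * ((Nat.card C : ℂ) - σ) / A =
        (Nat.card C : ℂ) * chi hS ω ((g * α : ℕ) : ℂ) ((g * β : ℕ) : ℂ) q⁻¹ -
          (β : ℂ) * (k : ℂ) * σ := by
      rw [hchi]
      have hQ := hp.mul
      push_cast at hQ hchi ⊢
      rw [show (g : ℂ) * α + g * β = g * A by rw [hA]; push_cast; ring]
      field_simp
      linear_combination (-1 : ℂ) * hsum + σ * hQ - (g : ℂ) * β * σ * hk'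
    rw [e]
    refine (((isIntegral_algebraMap (R := ℤ) (x := (Nat.card C : ℤ))).mul hint)).sub ?_
    exact ((isIntegral_algebraMap (R := ℤ) (x := (β : ℤ))).mul
      (isIntegral_algebraMap (R := ℤ) (x := (k : ℤ)))).mul hσint
  have hco : Int.gcd (β : ℤ) ((α + β : ℕ) : ℤ) = 1 := by
    rw [Int.gcd_natCast_natCast]
    exact Nat.coprime_add_self_right.2 hcop.symm
  obtain ⟨i, j, hij⟩ : ∃ i j : ℤ, (β : ℤ) * i + ((α + β : ℕ) : ℤ) * j = 1 := by
    refine ⟨Int.gcdA (β : ℤ) ((α + β : ℕ) : ℤ), Int.gcdB (β : ℤ) ((α + β : ℕ) : ℤ), ?_⟩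
    rw [← Int.gcd_eq_gcd_ab, hco]
    rfl
  have h2 : IsIntegral ℤ (((Nat.card C : ℂ) - σ) / A) := by
    have hij' : (β : ℂ) * i + A * j = 1 := by rw [hA]; exact_mod_cast hij
    have e : ((Nat.card C : ℂ) - σ) / A =
        (i : ℂ) * ((β : ℂ) * ((Nat.card C : ℂ) - σ) / A) + (j : ℂ) * ((Nat.card C : ℂ) - σ) := by
      field_simp
      linear_combination -((Nat.card C : ℂ) - σ) * hij'
    rw [e]
    exact ((isIntegral_algebraMap (R := ℤ) (x := i)).mul h1).add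
      ((isIntegral_algebraMap (R := ℤ) (x := j)).mul
        ((isIntegral_algebraMap (R := ℤ) (x := (Nat.card C : ℤ))).sub hσint))
  have hn := hS.odd_card
  have := all_one_of_congr hn (fun x : C => kap hS ω (x : G))
    (fun x => kap_pow_card hS hω (hCQ x x.2).1 (hCQ x x.2).2) (A := α + β) (by omega)
    (by rwa [← Nat.card_eq_fintype_card]) (by rw [← Nat.card_eq_fintype_card]; exact h2)
    ⟨q, 1, Q.one_mem, by simp⟩
  exact this

/-- `kap` is trivial on the centre of `Q`. -/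
theorem kap_central {q : G} (hq : q ∈ Q) (hq1 : q ≠ 1) (hc : ∀ w ∈ Q, w * q = q * w) :
    kap hS ω q = 1 := by
  refine kap_eq_one_of_small hS hω hg hα hβ hcop hdvd hp hq hq1 ?_
  have : {x : G | ∃ w ∈ Q, w * q * w⁻¹ = x} = {q} := by
    ext x
    refine ⟨?_, fun h => ⟨1, Q.one_mem, by simp [Set.mem_singleton_iff.1 h]⟩⟩
    rintro ⟨w, hw, rfl⟩
    simp [hc w hw]
  rw [this, Nat.card_eq_fintype_card]
  simp
  omega

end Cfsg.Agent.H99.RankOne.Hecke
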