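import Cfsg.Agent.H38.RankOne
import Cfsg.Agent.S1122
import Cfsg.Agent.S1128
import Cfsg.Agent.S1129
import Cfsg.Agent.S1130
import Cfsg.Agent.S1131
import Cfsg.Agent.S1132
import Cfsg.Agent.S1137
import Cfsg.Agent.S1138
import Cfsg.Agent.S1523
import Cfsg.Agent.H83.ClassConst
import Mathlib.GroupTheory.Nilpotent

/-!
# Rank one: the classes of `Q` inside its Sylow 2-subgroup are small, the odd part is large
-/

set_option autoImplicit false
set_option linter.unusedSectionVars false
set_option linter.style.haveILetI false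

namespace Cfsg.Agent.H99.RankOne

open MulAction Finset
open scoped Classical

universe u v

/-- In a finite nilpotent group a Sylow subgroup and its centraliser generate. -/
theorem sylow_sup_centralizer {K : Type u} [Group K] [Finite K] [Group.IsNilpotent K] {p : ℕ}
    [Fact p.Prime] (P : Sylow p K) :
    (P : Subgroup K) ⊔ Subgroup.centralizer ((P : Subgroup K) : Set K) = ⊤ := by
  refine Subgroup.eq_top_of_card_eq _ (Nat.dvd_antisymm (Subgroup.card_subgroup_dvd_card _) ?_)
  refine (Nat.dvd_iff_prime_pow_dvd_dvd _ _).2 fun r k hr hd => ?_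
  haveI := Fact.mk hr
  obtain ⟨R⟩ : Nonempty (Sylow r K) := inferInstance
  have hRle : (R : Subgroup K) ≤ (P : Subgroup K) ⊔ Subgroup.centralizer ((P : Subgroup K) : Set K) := by
    by_cases hrp : r = p
    · subst hrp
      haveI : (P : Subgroup K).Normal := inferInstance
      haveI := Sylow.unique_of_normal P inferInstance
      rw [Subsingleton.elim R P]
      exact le_sup_left
    · refine le_trans (fun y hy => ?_) le_sup_right
      exact Subgroup.mem_centralizer_iff.2 fun z hz =>
        ((Subgroup.commute_of_normal_of_disjoint _ _ inferInstance inferInstance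
          (IsPGroup.disjoint_of_ne r p hrp _ _ R.isPGroup' P.isPGroup') y z hy hz).eq).symm
  refine dvd_trans ?_ (Subgroup.card_dvd_of_le hRle)
  rw [Sylow.card_eq_multiplicity]
  exact pow_dvd_pow _ ((hr.pow_dvd_iff_le_factorization Nat.card_pos.ne').1 hd)

variable {G : Type u} {Ω : Type v} [Group G] [Fintype G] [MulAction G Ω] [FaithfulSMul G Ω] {a : Ω}
  {t : G} {Q : Subgroup G}
  (hS : Cfsg.IsRankOneSetup G Ω a t Q)
  (h2 : ∃ x y : G, x ≠ 1 ∧ y ≠ 1 ∧ x ≠ y ∧ x * x = 1 ∧ y * y = 1 ∧ x * y = y * x)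

include hS h2

/-- A class of `Q` inside the Sylow 2-subgroup has at most as many elements as there are involutions
fixing `a`, plus one. -/
theorem card_class_le (S : Sylow 2 Q) {x : Q} (hx : x ∈ (S : Subgroup Q)) :
    Nat.card {y : G | ∃ w ∈ Q, w * (x : G) * w⁻¹ = y} ≤
      Nat.card (Cfsg.involutionsIn (stabilizer G a : Set G)) + 1 := by
  have hnil := S1129.result hS h2
  haveI := hnil
  set I := Cfsg.involutionsIn (stabilizer G a : Set G)
  have hmem : ∀ w ∈ Q, w * (x : G) * w⁻¹ * (x : G)⁻¹ ∈ insert 1 I := by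
    intro w hw
    have htop : (⟨w, hw⟩ : Q) ∈ (S : Subgroup Q) ⊔ Subgroup.centralizer ((S : Subgroup Q) : Set Q) := by
      rw [sylow_sup_centralizer S]; trivial
    haveI : (S : Subgroup Q).Normal := inferInstance
    obtain ⟨m, hm, c, hc, hmc⟩ := Subgroup.mem_sup_of_normal_left.1 htop
    have hcx : c * x = x * c := (Subgroup.mem_centralizer_iff.1 hc x hx).symm
    have he : (⟨w, hw⟩ : Q) * x * (⟨w, hw⟩ : Q)⁻¹ * x⁻¹ = m * x * m⁻¹ * x⁻¹ := by
      rw [← hmc]
      calc m * c * x * (m * c)⁻¹ * x⁻¹ = m * (c * x) * c⁻¹ * m⁻¹ * x⁻¹ := by group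
        _ = m * (x * c) * c⁻¹ * m⁻¹ * x⁻¹ := by rw [hcx]
        _ = _ := by group
    have hz : ∀ z : Q, z * z = 1 → (z : G) ∈ insert 1 I := by
      intro z hz
      rcases eq_or_ne (z : G) 1 with h | h
      · exact Or.inl h
      · exact Or.inr ⟨hS.le z.2, h, congrArg Subtype.val hz⟩
    have he' := congrArg Subtype.val he
    simp only [Subgroup.coe_mul, Subgroup.coe_inv] at he'
    rw [he']
    have hval : ((m : G) * x * (m : G)⁻¹ * (x : G)⁻¹) = ((m * x * m⁻¹ * x⁻¹ : Q) : G) := rfl
    rw [hval]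
    refine hz _ ?_
    rcases S1132.result hS h2 S with hab | hsuz
    · have : m * x = x * m := congrArg Subtype.val (hab.is_comm.comm ⟨m, hm⟩ ⟨x, hx⟩)
      simp [this]
    · have h1 := (S1138.result hsuz).2.1 ⟨m, hm⟩⁻¹ ⟨x, hx⟩⁻¹
      have h3 := (S1137.result hsuz).2 _ h1
      simp only [inv_inv] at h3
      have := congrArg Subtype.val h3
      simpa using this
  calc Nat.card {y : G | ∃ w ∈ Q, w * (x : G) * w⁻¹ = y}
      ≤ Nat.card ↥(insert 1 I) := by
        refine Nat.card_le_card_of_injective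
          (fun y => (⟨(y : G) * (x : G)⁻¹, by
            obtain ⟨w, hw, hy⟩ := y.2
            rw [← hy]
            exact hmem w hw⟩ : ↥(insert 1 I))) fun y y' h => ?_
        exact Subtype.ext (mul_right_cancel (congrArg Subtype.val h))
    _ ≤ Nat.card I + 1 := by
        rw [Nat.card_coe_set_eq, Nat.card_coe_set_eq]
        exact Set.ncard_insert_le _ _

/-- A non-trivial normal subgroup of `G_a` of odd order inside `Q` has at least
`2 * #involutions + 1` elements. -/
theorem two_mul_card_invol_lt {P : Subgroup G} (hPQ : P ≤ Q) (hP1 : P ≠ ⊥)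
    (hPodd : Odd (Nat.card P)) (hPn : ∀ g ∈ stabilizer G a, ∀ x ∈ P, g * x * g⁻¹ ∈ P) :
    2 * Nat.card (Cfsg.involutionsIn (stabilizer G a : Set G)) + 1 ≤ Nat.card P := by
  obtain ⟨C, hC, -, -⟩ := S1131.result hS h2
  have hCD : ∀ c ∈ C, c ∈ stabilizer G a ⊓ stabilizer G (t • a) := fun c hc => by
    have : c ∈ (C : Set G) := hc
    rw [hC] at this
    exact this.1
  have hcardC : Nat.card C = Nat.card (Cfsg.involutionsIn (stabilizer G a : Set G)) := by
    rw [← (S1122.result hS).1]
    exact congrArg (fun X : Set G => Nat.card X) hC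
  let φ : C →* Equiv.Perm G :=
    { toFun := fun d => (MulAut.conj (d : G)).toEquiv
      map_one' := by ext x; simp
      map_mul' := fun d e => by ext x; simp [mul_assoc] }
  let s : Finset G := Finset.univ.filter fun x => x ∈ P ∧ x ≠ 1
  obtain ⟨r, hr, hsum⟩ := S1523.dvd_sum_free φ s (by
      intro c x hx
      simp only [s, Finset.mem_filter, Finset.mem_univ, true_and] at hx ⊢
      exact ⟨hPn _ (hCD c c.2).1 x hx.1, fun h => hx.2 ((φ c).injective (by
        rw [h]; simp [φ]))⟩) (by
      intro x hx c hc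
      simp only [s, Finset.mem_filter, Finset.mem_univ, true_and] at hx
      by_contra hc1
      have hcI : (c : G) ∈ Cfsg.invertedBy (stabilizer G a ⊓ stabilizer G (t • a)) t := by
        rw [← hC]; exact c.2
      have h := S1128.result hS h2 (c : G) hcI (fun h => hc1 (Subtype.ext h))
      have hxc : x ∈ Q ⊓ Subgroup.centralizer {(c : G)} := ⟨hPQ hx.1,
        Subgroup.mem_centralizer_singleton_iff.2 (mul_inv_eq_iff_eq_mul.1 hc).symm⟩
      rw [h, Subgroup.mem_bot] at hxc
      exact hx.2 hxc)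
    (fun _ => (1 : ℂ)) (fun _ _ => rfl) (fun _ => isIntegral_one)
  rw [Finset.sum_const, nsmul_eq_mul, mul_one] at hsum
  have hdvd := H83.int_dvd_of_isIntegral hr (n := (Nat.card C : ℤ)) (m := (s.card : ℤ))
    (by exact_mod_cast Nat.card_pos.ne') (by exact_mod_cast hsum.symm)
  have hdvd' : Nat.card C ∣ s.card := Int.natCast_dvd_natCast.1 hdvd
  have hs : s.card + 1 = Nat.card P := by
    rw [Nat.card_eq_fintype_card, Fintype.card_subtype,
      ← Finset.card_insert_of_notMem (a := (1 : G)) (s := s) (by simp [s])]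
    congr 1
    ext x
    simp only [s, Finset.mem_insert, Finset.mem_filter, Finset.mem_univ, true_and]
    exact ⟨fun h => h.elim (fun h => h ▸ one_mem P) And.left,
      fun h => (em (x = 1)).imp id fun h1 => ⟨h, h1⟩⟩
  have hCodd : Odd (Nat.card C) := Odd.of_dvd_nat hS.odd_card (Subgroup.card_dvd_of_le hCD)
  have hPlt : 1 < Nat.card P := (Subgroup.one_lt_card_iff_ne_bot _).2 hP1
  obtain ⟨m, hm⟩ := hdvd'
  rw [hcardC] at hm hCodd
  obtain ⟨i, hi⟩ := hPodd
  obtain ⟨j, hj⟩ := hCodd
  set n := Nat.card (Cfsg.involutionsIn (stabilizer G a : Set G))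
  rcases m with _ | _ | m
  · omega
  · omega
  · have : n * 2 ≤ s.card := by
      rw [hm]; exact Nat.mul_le_mul_left _ (by omega)
    omega

end Cfsg.Agent.H99.RankOne
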