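import Cfsg.Agent.H99.RankOne.Congr
import Cfsg.Agent.H99.RankOne.SylowTwo

/-!
# Rank one: with a non-trivial invariant character of the two-point stabiliser, `|Q| = q ^ 3`

Let `G` be generated by `Q` and `t`, `q - 1` the number of involutions fixing `a`, and `ω` a
non-trivial homomorphism of the two-point stabiliser to `ℂ` invariant under `t`.  Then `Q` is a 2-group
of order `q ^ 3` and the coefficient of `ω` is `q - q ^ 2`.
-/

set_option autoImplicit false
set_option linter.unusedSectionVars false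
set_option linter.style.haveILetI false

namespace Cfsg.Agent.H99.RankOne.Hecke

open MulAction Finset
open scoped ComplexConjugate Classical

universe u v

variable {G : Type u} {Ω : Type v} [Group G] [Fintype G] [MulAction G Ω] [FaithfulSMul G Ω] {a : Ω}
  {t : G} {Q : Subgroup G}
  (hS : Cfsg.IsRankOneSetup G Ω a t Q)
  (h2 : ∃ x y : G, x ≠ 1 ∧ y ≠ 1 ∧ x ≠ y ∧ x * x = 1 ∧ y * y = 1 ∧ x * y = y * x)
  {ω : ↥(stabilizer G a ⊓ stabilizer G (t • a)) →* ℂ} (hω : IsGoodHom hS ω)

include hS h2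

theorem exists_central_invol : ∃ s : G, s ∈ Cfsg.involutionsIn (stabilizer G a : Set G) ∧ s ∈ Q ∧
    ∀ w ∈ Q, w * s = s * w := by
  obtain ⟨⟨s, r⟩, ⟨hs, -, -⟩, -⟩ := S1123.result hS
  obtain ⟨hsQ, hc⟩ := (S1130.result hS h2).1 s hs
  exact ⟨s, hs, hsQ, fun w hw => (hc w hw).symm⟩

include hω

/-- The linear case is impossible when `Q` and `t` generate. -/
theorem eq_one_of_linear (hgen : Subgroup.closure ((Q : Set G) ∪ {t}) = ⊤)
    (hp : IsParam hS ω ((Nat.card Q : ℕ) : ℂ) 1) : ω = 1 := by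
  set x : ℂ := ((Nat.card Q : ℕ) : ℂ) with hx
  have hN : x + 1 ≠ 0 := hp.add
  have hcoef : coef hS ω = x - 1 := hp.sub.symm
  have hkap : ∀ q ∈ Q, q ≠ 1 → kap hS ω q = 1 := by
    intro q hq hq1
    let ι := {w : Q // w ≠ 1}
    have hsum : ∑ w : ι, kap hS ω ((w : Q) : G) = (Fintype.card ι : ℂ) := by
      have h := hcoef
      rw [coef, Fintype.sum_eq_add_sum_subtype_ne _ (1 : Q), OneMemClass.coe_one, kap_one hS hω,
        zero_add] at h
      rw [h, hx, Fintype.card_subtype_compl, Fintype.card_subtype_eq, Nat.card_eq_fintype_card,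
        Nat.cast_sub (Fintype.card_pos), Nat.cast_one]
    have := CharBasic.eq_of_norm_sum_eq_card (fun w : ι => kap hS ω ((w : Q) : G))
      (fun w => norm_kap hS hω w.1.2 (fun h => w.2 (Subtype.ext h))) (by rw [hsum]; simp)
      ⟨⟨q, hq⟩, fun h => hq1 (congrArg Subtype.val h)⟩
    rw [this, hsum, div_self (Nat.cast_ne_zero.2
      (Fintype.card_pos_iff.2 ⟨(⟨⟨q, hq⟩, fun h => hq1 (congrArg Subtype.val h)⟩ : ι)⟩).ne')]
  have hchi1 : chi hS ω x 1 1 = 1 := by
    rw [chi_one hS hω, mul_one]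
    exact div_self hN
  have hchiQ : ∀ q ∈ Q, chi hS ω x 1 q = 1 := by
    intro q hq
    rcases eq_or_ne q 1 with rfl | hq1
    · exact hchi1
    have hcs : conjSum hS ω q⁻¹ = x := by
      rw [conjSum, Finset.sum_congr rfl fun w _ => hkap _
        (mul_mem (mul_mem w.2 (inv_mem hq)) (inv_mem w.2)) (by simpa using hq1)]
      simp [hx, Nat.card_eq_fintype_card]
    rw [chi_Q hS hω hq hq1, hcs, add_comm]
    exact div_self hN
  -- the representation is one-dimensional
  let ρ := repE hS ω x 1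
  have htr : ∀ g, LinearMap.trace ℂ _ (ρ g) = chi hS ω x 1 g := repE_trace hS hω hp
  have hrank : Module.finrank ℂ (LinearMap.range (projE hS ω x 1)) = 1 := by
    have h := htr 1
    rw [map_one, hchi1, show (1 : Module.End ℂ (LinearMap.range (projE hS ω x 1))) = LinearMap.id
      from rfl, LinearMap.trace_id] at h
    exact_mod_cast h
  obtain ⟨v₀, hv₀, hspan⟩ := finrank_eq_one_iff'.1 hrank
  have hscal : ∀ g, ρ g = chi hS ω x 1 g • LinearMap.id := by
    intro g
    obtain ⟨c, hc⟩ := hspan (ρ g v₀)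
    have he : ρ g = c • LinearMap.id := by
      refine LinearMap.ext fun w => ?_
      obtain ⟨e, rfl⟩ := hspan w
      rw [map_smul, ← hc, LinearMap.smul_apply, LinearMap.id_apply, smul_comm]
    have h := congrArg (LinearMap.trace ℂ _) he
    rw [htr, map_smul, LinearMap.trace_id, hrank, Nat.cast_one, smul_eq_mul, mul_one] at h
    rw [he, h]
  have hmul : ∀ g h, chi hS ω x 1 (g * h) = chi hS ω x 1 g * chi hS ω x 1 h := by
    intro g h
    rw [← htr (g * h), map_mul, hscal g, hscal h]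
    simp only [smul_mul_smul_comm, map_smul, smul_eq_mul]
    rw [show (LinearMap.id * LinearMap.id : Module.End ℂ (LinearMap.range (projE hS ω x 1))) =
      LinearMap.id from rfl, LinearMap.trace_id, hrank, Nat.cast_one, mul_one]
  have hchit : chi hS ω x 1 t = 1 := by
    obtain ⟨s, hs, hsQ, -⟩ := exists_central_invol hS h2
    obtain ⟨g, hg⟩ := H38.invol_conj hS hs.2.1 hs.2.2 hS.ne_one hS.mul_self
    exact ((congrArg (chi hS ω x 1) hg.symm).trans
      (CharBasic.IsChar.isClassFunction (isCharacter_chi hS hω hp) s g)).trans (hchiQ s hsQ)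
  have hall : ∀ g : G, chi hS ω x 1 g = 1 := by
    let K : Subgroup G :=
      { carrier := {g | chi hS ω x 1 g = 1}
        one_mem' := hchi1
        mul_mem' := fun {g h} hg hh => by
          show chi hS ω x 1 (g * h) = 1
          rw [hmul, show chi hS ω x 1 g = 1 from hg, show chi hS ω x 1 h = 1 from hh, one_mul]
        inv_mem' := fun {g} hg => by
          show chi hS ω x 1 g⁻¹ = 1
          have h := hmul g g⁻¹
          rw [mul_inv_cancel, hchi1, show chi hS ω x 1 g = 1 from hg, one_mul] at h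
          exact h.symm }
    intro g
    have : Subgroup.closure ((Q : Set G) ∪ {t}) ≤ K := by
      rw [Subgroup.closure_le]
      rintro z (hz | rfl)
      · exact hchiQ z hz
      · exact hchit
    exact this (hgen ▸ Subgroup.mem_top g)
  refine MonoidHom.ext fun d => ?_
  set E := idem hS ω x 1 with hE
  have hEmem : E ∈ LinearMap.range (projE hS ω x 1) := ⟨E, conv_idem_idem hS hω hp⟩
  have h := congrArg (fun f : Module.End ℂ (LinearMap.range (projE hS ω x 1)) =>
    ((f ⟨E, hEmem⟩ : LinearMap.range (projE hS ω x 1)) : G → ℂ) 1) (hscal (d : G))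
  simp only [LinearMap.smul_apply, LinearMap.id_apply, Submodule.coe_smul, Pi.smul_apply,
    hall, one_smul] at h
  have hl : ((ρ (d : G)) ⟨E, hEmem⟩ : G → ℂ) 1 = E ((d : G)⁻¹ * 1) := rfl
  rw [hl, hE, (isBi_idem hS hω x 1 _ (inv_mem d.2.1) 1).1, ← hE] at h
  have hE1 : E 1 ≠ 0 := by
    simp only [hE, idem, Pi.smul_apply, Pi.add_apply, fl_of_mem hS ω (one_mem (stabilizer G a)),
      el_one, smul_eq_mul, zero_add, mul_one]
    exact inv_ne_zero (mul_ne_zero hN (Nat.cast_ne_zero.2 Nat.card_pos.ne'))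
  have hd : el hS ω (d : G)⁻¹ = 1 := mul_right_cancel₀ hE1 (h.trans (one_mul _).symm)
  have h' := el_inv_mul hS ω d.2.1
  rw [hd, one_mul, el_of_mem hS ω d.2.1] at h'
  rw [MonoidHom.one_apply, ← h']
  exact (lam_of_mem_D hS ω d).symm

variable (hgen : Subgroup.closure ((Q : Set G) ∪ {t}) = ⊤) (hne : ω ≠ 1)

/-- The orbits of the inverted subgroup: the number of involutions divides the coefficient. -/
theorem invol_dvd_coef {c : ℤ} (hc : coef hS ω = c) :
    (Nat.card (Cfsg.involutionsIn (stabilizer G a : Set G)) : ℤ) ∣ c := by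
  obtain ⟨C, hC, -, -⟩ := S1131.result hS h2
  have hCmem : ∀ d : C, (d : G) ∈ Cfsg.invertedBy (stabilizer G a ⊓ stabilizer G (t • a)) t :=
    fun d => by rw [← hC]; exact d.2
  have hcardC : Nat.card C = Nat.card (Cfsg.involutionsIn (stabilizer G a : Set G)) := by
    rw [← (S1122.result hS).1]
    exact congrArg (fun X : Set G => Nat.card X) hC
  let φ : C →* Equiv.Perm Q :=
    { toFun := fun d =>
        { toFun := fun w => ⟨(d : G) * w * (d : G)⁻¹, hS.conj_mem _ (hCmem d).1.1 _ w.2⟩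
          invFun := fun w => ⟨(d : G)⁻¹ * w * (d : G), by
            simpa using hS.conj_mem _ (inv_mem (hCmem d).1.1) _ w.2⟩
          left_inv := fun w => Subtype.ext (by simp [mul_assoc])
          right_inv := fun w => Subtype.ext (by simp [mul_assoc]) }
      map_one' := by ext w; simp
      map_mul' := fun d e => by ext w; simp [mul_assoc] }
  obtain ⟨r, hr, hsum⟩ := S1523.dvd_sum_free φ (Finset.univ.erase (1 : Q)) (by
      intro d w hw
      refine Finset.mem_erase.2 ⟨fun h => (Finset.mem_erase.1 hw).1 ((φ d).injective ?_),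
        Finset.mem_univ _⟩
      rw [h]; ext; simp [φ]) (by
      intro w hw d hd
      by_contra hd1
      have h := S1128.result hS h2 (d : G) (hCmem d) fun h => hd1 (Subtype.ext h)
      have hmem : (w : G) ∈ Q ⊓ Subgroup.centralizer {(d : G)} := ⟨w.2,
        Subgroup.mem_centralizer_singleton_iff.2
          (mul_inv_eq_iff_eq_mul.1 (congrArg Subtype.val hd)).symm⟩
      rw [h, Subgroup.mem_bot] at hmem
      exact (Finset.mem_erase.1 hw).1 (Subtype.ext hmem))
    (fun w : Q => kap hS ω w) (fun d w => kap_conj_D hS hω (hCmem d).1 _)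
    (fun w => isIntegral_kap hS hω w.2)
  rw [Finset.sum_erase _ (by rw [OneMemClass.coe_one]; exact kap_one hS hω)] at hsum
  have h : coef hS ω = (Nat.card C : ℂ) * r := hsum
  rw [hc] at h
  rw [← hcardC]
  exact H83.int_dvd_of_isIntegral hr (by exact_mod_cast Nat.card_pos.ne') (by exact_mod_cast h.symm)

include hgen hne

/-- The main theorem. -/
theorem card_eq_cube : IsPGroup 2 Q ∧ (∀ x ∈ Q, (x * x) * (x * x) = 1) ∧
    Nat.card Q = (Nat.card (Cfsg.involutionsIn (stabilizer G a : Set G)) + 1) ^ 3 ∧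
    coef hS ω = ((Nat.card (Cfsg.involutionsIn (stabilizer G a : Set G)) + 1 : ℕ) : ℂ) -
      ((Nat.card (Cfsg.involutionsIn (stabilizer G a : Set G)) + 1 : ℕ) : ℂ) ^ 2 := by
  obtain ⟨s, hs, hsQ, hsc⟩ := exists_central_invol hS h2
  obtain ⟨g, α, β, hg, hα, hβ, hcop, hdvd, hp⟩ := exists_num hS hω hs hsQ hsc
  have hnil : Group.IsNilpotent Q := S1129.result hS h2
  haveI := hnil
  set I := Nat.card (Cfsg.involutionsIn (stabilizer G a : Set G)) with hI
  have hI1 : 1 ≤ I := by
    haveI : Nonempty (Cfsg.involutionsIn (stabilizer G a : Set G)) := ⟨⟨s, hs⟩⟩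
    exact Nat.card_pos
  have hQcard : Nat.card Q = g * g * (α * β) := by
    have h := hp.mul
    rw [← Nat.cast_mul] at h
    rw [← Nat.cast_injective h]; ring
  obtain ⟨S⟩ : Nonempty (Sylow 2 Q) := inferInstance
  have hclass : ∀ x ∈ (S : Subgroup Q), Nat.card {y : G | ∃ w ∈ Q, w * (x : G) * w⁻¹ = y} ≤ I + 1 :=
    fun x hx => card_class_le hS h2 S hx
  have hscard : Nat.card (S : Subgroup Q) = 2 ^ (Nat.card Q).factorization 2 :=
    Sylow.card_eq_multiplicity S
  have h2Q : 2 ∣ Nat.card Q := hS.even_card.two_dvd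
  obtain ⟨k, hk⟩ := id hdvd
  -- `g` is odd as soon as `kap` is trivial on the Sylow 2-subgroup
  have hodd_g : (∀ x ∈ (S : Subgroup Q), x ≠ 1 → kap hS ω (x : G) = 1) → Odd g := by
    intro hconst
    by_contra hev
    rw [Nat.not_odd_iff_even] at hev
    haveI : (S : Subgroup Q).Normal := inferInstance
    have hchar := isCharacter_chi hS hω hp
    obtain ⟨hzval, hdeg⟩ := chi_one_sub hS hω hg hα hβ hcop hdvd hp hk hsQ hs.2.1 hsc
    have hval : ∀ x : (S : Subgroup Q).map Q.subtype, x ≠ 1 →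
        chi hS ω ((g * α : ℕ) : ℂ) ((g * β : ℕ) : ℂ) (x : G) = ((β * k : ℕ) : ℂ) := by
      rintro ⟨_, x, hx, rfl⟩ hx1
      have hx1' : x ≠ 1 := fun h => hx1 (Subtype.ext (by simp [h]))
      rw [← hzval]
      show chi hS ω _ _ ((x : Q) : G) = _
      rw [chi_Q hS hω x.2 (fun h => hx1' (Subtype.ext h)), chi_Q hS hω hsQ hs.2.1]
      have h1 : conjSum hS ω (x : G)⁻¹ = (Nat.card Q : ℂ) := by
        have hw : ∀ w : Q, kap hS ω ((w : G) * (x : G)⁻¹ * (w : G)⁻¹) = 1 := fun w =>
          hconst (w * x⁻¹ * w⁻¹) (Subgroup.Normal.conj_mem inferInstance _ (inv_mem hx) w)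
            (by simpa using hx1')
        rw [conjSum, Finset.sum_congr rfl fun w _ => hw w]
        simp [Nat.card_eq_fintype_card]
      have hsinv : s⁻¹ = s := inv_eq_of_mul_eq_one_right hs.2.2
      rw [h1, hsinv, conjSum_central hS hω hsc, kap_invol hS hω hs, mul_one]
    obtain ⟨m, hm⟩ := H83.sum_subgroup_eq hchar ((S : Subgroup Q).map Q.subtype)
    rw [← Finset.add_sum_erase _ _ (Finset.mem_univ (1 : (S : Subgroup Q).map Q.subtype)),
      Finset.sum_congr rfl fun x hx => hval x (Finset.mem_erase.1 hx).1, Finset.sum_const,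
      Finset.card_erase_of_mem (Finset.mem_univ _), Finset.card_univ, ← Nat.card_eq_fintype_card,
      Subgroup.card_subtype, OneMemClass.coe_one, hdeg, nsmul_eq_mul] at hm
    set N := Nat.card (S : Subgroup Q) with hN
    have hN1 : 1 ≤ N := Nat.card_pos
    have he : ((N : ℤ) * ((m : ℤ) - β * k) : ℂ) = (((g * α * β : ℕ) : ℤ) * ((g : ℤ) - k) : ℤ) := by
      rw [Nat.cast_sub hN1] at hm
      push_cast at hm ⊢
      linear_combination -hm
    have hdv : (N : ℤ) ∣ ((g * α * β : ℕ) : ℤ) * ((g : ℤ) - k) :=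
      ⟨(m : ℤ) - β * k, by exact_mod_cast he.symm⟩
    have hkodd : Odd k := by
      have : Odd ((α + β) * k) := hk ▸ ((hev.mul_right α).add_one)
      exact (Nat.odd_mul.1 this).2
    have hgk : ¬ (2 : ℤ) ∣ (g : ℤ) - k := by
      intro h
      obtain ⟨i, hi⟩ := hkodd
      obtain ⟨e, he⟩ := hev
      omega
    rw [hscard, Nat.cast_pow] at hdv
    have h1 := Int.natCast_dvd_natCast.1 (by
      have := (Int.prime_iff_natAbs_prime.2 (by norm_num : Nat.Prime (2 : ℤ).natAbs)).pow_dvd_of_dvd_mul_right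
        _ hgk hdv
      exact_mod_cast this : ((2 ^ (Nat.card Q).factorization 2 : ℕ) : ℤ) ∣ ((g * α * β : ℕ) : ℤ))
    refine Nat.pow_succ_factorization_not_dvd (n := Nat.card Q) (p := 2) Nat.card_pos.ne'
      Nat.prime_two ?_
    rw [pow_succ']
    exact (Nat.mul_dvd_mul hev.two_dvd h1).trans (dvd_of_eq (by rw [hQcard]; ring))
  have hlinear : g = 1 → False := by
    intro hg1
    subst hg1
    rw [one_mul] at hdvd
    have hβ1 : β = 1 := by
      have := Nat.le_of_dvd (by omega) hdvd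
      omega
    subst hβ1
    refine hne (eq_one_of_linear hS h2 hω hgen ?_)
    have : Nat.card Q = α := by rw [hQcard]; ring
    rw [this]
    simpa using hp
  -- `Q` is a 2-group
  have hQ2 : ∀ p, p.Prime → p ∣ Nat.card Q → p = 2 := by
    intro p hp' hpQ
    by_contra hp2
    haveI := Fact.mk hp'
    have hnd : ∀ r, r.Prime → r ∣ Nat.card Q → r ≠ 2 → ¬ r ∣ g := fun r hr hrQ hr2 =>
      haveI := Fact.mk hr
      not_dvd_g hS hω hg hα hβ hcop hdvd hp hnil hrQ hr2
    obtain ⟨R⟩ : Nonempty (Sylow p Q) := inferInstance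
    set P : Subgroup G := (R : Subgroup Q).map Q.subtype
    have hPcard : Nat.card P = p ^ (Nat.card Q).factorization p := by
      rw [Subgroup.card_subtype, Sylow.card_eq_multiplicity]
    have hf : (Nat.card Q).factorization p ≠ 0 :=
      (Nat.Prime.factorization_pos_of_dvd hp' Nat.card_pos.ne' hpQ).ne'
    have hP1 : P ≠ ⊥ := fun h => by
      have h' : Nat.card P = 1 := by rw [h, Subgroup.card_bot]
      rw [hPcard] at h'
      exact (Nat.one_lt_pow hf hp'.one_lt).ne' h'
    have hPn : ∀ x ∈ stabilizer G a, ∀ y ∈ P, x * y * x⁻¹ ∈ P := by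
      rintro x hx _ ⟨y, hy, rfl⟩
      let e : Q ≃* Q :=
        { toFun := fun w => ⟨x * w * x⁻¹, hS.conj_mem x hx _ w.2⟩
          invFun := fun w => ⟨x⁻¹ * w * x, by simpa using hS.conj_mem x⁻¹ (inv_mem hx) _ w.2⟩
          left_inv := fun w => Subtype.ext (by simp [mul_assoc])
          right_inv := fun w => Subtype.ext (by simp [mul_assoc])
          map_mul' := fun w w' => Subtype.ext (by simp [mul_assoc]) }
      haveI : (R : Subgroup Q).Normal := inferInstance
      haveI : Subsingleton (Sylow p Q) := by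
        haveI := Sylow.unique_of_normal R inferInstance
        infer_instance
      have hch : (R : Subgroup Q).Characteristic := Sylow.characteristic_of_subsingleton _
      exact ⟨e y, (Subgroup.characteristic_iff_map_le.1 hch e) ⟨y, hy, rfl⟩, rfl⟩
    have hbig := two_mul_card_invol_lt hS h2 (Subgroup.map_subtype_le _) hP1
      (by rw [hPcard]; exact (hp'.odd_of_ne_two hp2).pow) hPn
    rw [hPcard, ← hI] at hbig
    -- the whole `p`-part lies in one of `α`, `β`
    set μ := (Nat.card Q).factorization p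
    have hdv : p ^ μ ∣ g * g * (α * β) := hQcard ▸ Nat.ordProj_dvd _ _
    have hdv' : p ^ μ ∣ α * β := (Nat.Coprime.pow_left μ ((hp'.coprime_iff_not_dvd).2 fun h =>
      (hp'.dvd_mul.1 h).elim (hnd p hp' hpQ hp2) (hnd p hp' hpQ hp2))).dvd_of_dvd_mul_left hdv
    have hA : p ^ μ < α + β := by
      rcases em (p ∣ β) with hb | hb
      · have hna : ¬ p ∣ α := fun ha => hp'.ne_one (Nat.dvd_one.1 (hcop ▸ Nat.dvd_gcd ha hb))
        have := Nat.le_of_dvd hβ ((Nat.Coprime.pow_left μ ((hp'.coprime_iff_not_dvd).2 hna)).dvd_of_dvd_mul_left hdv')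
        omega
      · have := Nat.le_of_dvd hα ((Nat.Coprime.pow_left μ ((hp'.coprime_iff_not_dvd).2 hb)).dvd_of_dvd_mul_right hdv')
        omega
    have hgodd : Odd g := hodd_g fun x hx hx1 => by
      refine kap_eq_one_of_small hS hω hg hα hβ hcop hdvd hp x.2 (fun h => hx1 (Subtype.ext h)) ?_
      have := hclass x hx
      omega
    refine hlinear ?_
    by_contra hg1
    obtain ⟨r, hr, hrg⟩ := Nat.exists_prime_and_dvd hg1
    refine hnd r hr (hQcard ▸ (hrg.mul_right g).mul_right _) (fun h => ?_) hrg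
    subst h
    exact Nat.not_even_iff_odd.2 hgodd (even_iff_two_dvd.2 hrg)
  obtain ⟨N, hN⟩ : ∃ N, Nat.card Q = 2 ^ N :=
    ⟨_, Nat.eq_prime_pow_of_unique_prime_dvd Nat.card_pos.ne' fun {d} hd hdQ => hQ2 d hd hdQ⟩
  have hpg : IsPGroup 2 Q := IsPGroup.of_card hN
  refine ⟨hpg, ?_⟩
  have hStop : (S : Subgroup Q) = ⊤ := by
    refine Subgroup.eq_top_of_card_eq _ ?_
    rw [hscard, hN, Nat.factorization_pow_self Nat.prime_two]
  have hgpow : ∀ d, d ∣ Nat.card Q → ∃ i, d = 2 ^ i := fun d hd => by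
    rw [hN] at hd
    obtain ⟨i, -, hi⟩ := (Nat.dvd_prime_pow Nat.prime_two).1 hd
    exact ⟨i, hi⟩
  obtain ⟨j, hj⟩ := hgpow g (hQcard ▸ ((dvd_mul_right g g).trans (dvd_mul_right _ _)))
  have hj1 : 1 ≤ j := by
    rcases Nat.eq_zero_or_pos j with rfl | h
    · exact absurd hj (fun h => hlinear h)
    · exact h
  have hgev : Even g := by rw [hj]; exact (even_two).pow_of_ne_zero (by omega)
  -- some class is large: `α + β` is small
  have hsmallA : α + β < 2 * (I + 1) := by
    by_contra hbig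
    refine Nat.not_odd_iff_even.2 hgev (hodd_g fun x hx hx1 => ?_)
    refine kap_eq_one_of_small hS hω hg hα hβ hcop hdvd hp x.2 (fun h => hx1 (Subtype.ext h)) ?_
    have := hclass x hx
    omega
  -- the structure of `Q`
  have hsuz : Cfsg.IsSuzukiTwoGroup ↥(S : Subgroup Q) := by
    rcases S1132.result hS h2 S with hab | h
    · exfalso
      refine Nat.not_odd_iff_even.2 hgev (hodd_g fun x hx hx1 => ?_)
      refine kap_central hS hω hg hα hβ hcop hdvd hp x.2 (fun h => hx1 (Subtype.ext h))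
        fun w hw => ?_
      have hw' : (⟨w, hw⟩ : Q) ∈ (S : Subgroup Q) := hStop ▸ Subgroup.mem_top _
      exact congrArg (fun y : (S : Subgroup Q) => ((y : Q) : G))
        (hab.is_comm.comm ⟨⟨w, hw⟩, hw'⟩ ⟨x, hx⟩)
    · exact h
  have hcenter : Nat.card (Subgroup.center ↥(S : Subgroup Q)) = I + 1 := by
    have hmem : ∀ z : Subgroup.center ↥(S : Subgroup Q),
        (((z : (S : Subgroup Q)) : Q) : G) ∈
          insert 1 (Cfsg.involutionsIn (stabilizer G a : Set G)) := by
      intro z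
      rcases eq_or_ne (z : (S : Subgroup Q)) 1 with h | h
      · left; simp [h]
      · refine Or.inr ⟨hS.le (((z : (S : Subgroup Q)) : Q)).2,
          fun e => h (Subtype.ext (Subtype.ext e)), ?_⟩
        exact congrArg (fun y : (S : Subgroup Q) => ((y : Q) : G)) ((S1137.result hsuz).2 _ z.2)
    rw [hI, Nat.card_eq_of_bijective (fun z => (⟨_, hmem z⟩ :
      ↥(insert 1 (Cfsg.involutionsIn (stabilizer G a : Set G))))) ⟨fun z z' h =>
        Subtype.ext (Subtype.ext (Subtype.ext (congrArg Subtype.val h :))), ?_⟩,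
      Nat.card_coe_set_eq, Nat.card_coe_set_eq, Set.ncard_insert_of_notMem (fun h => h.2.1 rfl)]
    rintro ⟨y, hy⟩
    rcases hy with rfl | ⟨hyA, hy1, hy2⟩
    · exact ⟨1, rfl⟩
    · have hyQ : y ∈ Q := H38.invol_mem_Q hS hyA hy2
      have hyS : (⟨y, hyQ⟩ : Q) ∈ (S : Subgroup Q) := hStop ▸ Subgroup.mem_top _
      refine ⟨⟨⟨⟨y, hyQ⟩, hyS⟩, (((S1137.result hsuz).1 ⟨⟨y, hyQ⟩, hyS⟩).1 ⟨fun e => hy1
        (congrArg (fun z : (S : Subgroup Q) => ((z : Q) : G)) e), Subtype.ext (Subtype.ext hy2)⟩).1⟩,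
        rfl⟩
  refine ⟨fun x hx => ?_, ?_⟩
  · have hx' : (⟨x, hx⟩ : Q) ∈ (S : Subgroup Q) := hStop ▸ Subgroup.mem_top _
    have h4 : (⟨⟨x, hx⟩, hx'⟩ : (S : Subgroup Q)) ^ 4 = 1 := by
      rw [← (S1138.result hsuz).2.2.2]
      exact Monoid.pow_exponent_eq_one _
    have h := congrArg (fun z : (S : Subgroup Q) => ((z : Q) : G)) h4
    simpa [pow_succ, mul_assoc] using h
  have hQS : Nat.card ↥(S : Subgroup Q) = Nat.card Q := by rw [hStop, Subgroup.card_top]
  obtain ⟨f, hf⟩ : ∃ f, I + 1 = 2 ^ f := hgpow _ (hcenter ▸ hQS ▸ Subgroup.card_subgroup_dvd_card _)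
  obtain ⟨i₁, hi₁⟩ := hgpow α (hQcard ▸ (dvd_mul_right α β).trans (dvd_mul_left _ _))
  obtain ⟨i₂, hi₂⟩ := hgpow β (hQcard ▸ (dvd_mul_left β α).trans (dvd_mul_left _ _))
  have hzero : i₁ = 0 ∨ i₂ = 0 := by
    by_contra h
    push Not at h
    have h1 : 2 ∣ Nat.gcd α β := Nat.dvd_gcd (hi₁ ▸ dvd_pow_self 2 h.1) (hi₂ ▸ dvd_pow_self 2 h.2)
    rw [Nat.Coprime.gcd_eq_one hcop] at h1
    omega
  have hcoefc : coef hS ω = ((((g * α : ℕ) : ℤ) - ((g * β : ℕ) : ℤ) : ℤ) : ℂ) := by
    rw [← hp.sub]; push_cast; ring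
  have hdiv := invol_dvd_coef hS h2 hω hcoefc
  rw [← hI, show ((g * α : ℕ) : ℤ) - ((g * β : ℕ) : ℤ) = (g : ℤ) * ((α : ℤ) - β) by push_cast; ring]
    at hdiv
  have hcopI : Int.gcd (I : ℤ) (g : ℤ) = 1 := by
    rw [Int.gcd_natCast_natCast, hj]
    refine Nat.Coprime.pow_right j ?_
    rw [Nat.coprime_two_right, Nat.odd_iff]
    have : 1 ≤ f := by
      rcases Nat.eq_zero_or_pos f with rfl | h
      · simp at hf; omega
      · exact h
    obtain ⟨e, he⟩ : 2 ∣ I + 1 := hf ▸ dvd_pow_self 2 (by omega)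
    omega
  have hdiv' : (I : ℤ) ∣ (α : ℤ) - β := Int.dvd_of_dvd_mul_right_of_gcd_one hdiv hcopI
  -- the two exponents
  have hne0 : i₁ ≠ i₂ := by
    intro h
    have hab : α = 1 ∧ β = 1 := by
      rcases hzero with h0 | h0 <;> simp [hi₁, hi₂, h ▸ h0, h0, ← h] <;> omega
    have : Odd (g * α + 1) := (hgev.mul_right α).add_one
    rw [hk, hab.1, hab.2] at this
    exact Nat.not_odd_iff_even.2 even_two (Nat.odd_mul.1 (by simpa using this)).1
  have hexp : (i₁ = 0 ∧ i₂ = f) ∨ (i₂ = 0 ∧ i₁ = f) := by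
    have key : ∀ e, 0 < e → 2 ^ e + 1 < 2 * (I + 1) → (I : ℤ) ∣ (2 : ℤ) ^ e - 1 → e = f := by
      intro e he hlt hd
      have hle : e ≤ f := by
        rw [hf, ← pow_succ'] at hlt
        have : 2 ^ e < 2 ^ (f + 1) := by omega
        have := (Nat.pow_lt_pow_iff_right (by norm_num)).1 this
        omega
      have h2e : 2 ≤ 2 ^ e := Nat.le_self_pow he.ne' 2
      have hd' : I ∣ 2 ^ e - 1 := by
        rw [← Int.natCast_dvd_natCast, Nat.cast_sub (by omega)]
        push_cast; exact hd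
      have := Nat.le_of_dvd (by omega) hd'
      have hee : 2 ^ e = 2 ^ f := by
        have : 2 ^ e ≤ 2 ^ f := Nat.pow_le_pow_right (by norm_num) hle
        omega
      exact Nat.pow_right_injective le_rfl hee
    rcases hzero with h | h
    · refine Or.inl ⟨h, key i₂ (by omega) ?_ ?_⟩
      · rw [hi₁, hi₂, h] at hsmallA; omega
      · rw [hi₁, hi₂, h] at hdiv'
        push_cast at hdiv'
        simpa using hdiv'.neg_right
    · refine Or.inr ⟨h, key i₁ (by omega) ?_ ?_⟩
      · rw [hi₁, hi₂, h] at hsmallA; omega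
      · rw [hi₁, hi₂, h] at hdiv'
        push_cast at hdiv'
        simpa using hdiv'
  have hf1 : 1 ≤ f := by
    rcases Nat.eq_zero_or_pos f with rfl | h
    · simp at hf; omega
    · exact h
  have horder : 2 * j + f = 2 * f ∨ 2 * j + f = 3 * f := by
    have hQpow : Nat.card Q = 2 ^ (2 * j + f) := by
      rcases hexp with ⟨h, h'⟩ | ⟨h, h'⟩ <;>
        · rw [hQcard, hj, hi₁, hi₂, h, h']; ring
    have h := (S1138.result hsuz).2.2.1
    rw [hQS, hcenter, hf, hQpow, ← pow_mul, ← pow_mul] at h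
    exact h.imp (fun h => by have := Nat.pow_right_injective le_rfl h; omega)
      (fun h => by have := Nat.pow_right_injective le_rfl h; omega)
  have hjle : j ≤ f := by omega
  have hcase : i₁ = 0 ∧ i₂ = f ∧ j = f := by
    rcases hexp with ⟨h, h'⟩ | ⟨h, h'⟩
    · refine ⟨h, h', ?_⟩
      have hd := Nat.le_of_dvd (by omega) hdvd
      rw [hj, hi₁, hi₂, h, h'] at hd
      have : 2 ^ f ≤ 2 ^ j := by simp at hd; omega
      have := (Nat.pow_le_pow_iff_right (by norm_num)).1 this
      omega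
    · exfalso
      -- `2 ^ f + 1 ∣ 2 ^ j - 1` is impossible for `1 ≤ j ≤ f`
      rw [hj, hi₁, hi₂, h, h'] at hdvd
      simp only [pow_zero] at hdvd
      have h1 : (2 ^ f + 1 : ℤ) ∣ (2 : ℤ) ^ j * 2 ^ f + 1 := by exact_mod_cast hdvd
      have h2' : (2 ^ f + 1 : ℤ) ∣ (2 : ℤ) ^ j - 1 := by
        have := ((dvd_refl (2 ^ f + 1 : ℤ)).mul_left ((2 : ℤ) ^ j)).sub h1
        exact (show (2 : ℤ) ^ j * (2 ^ f + 1) - (2 ^ j * 2 ^ f + 1) = 2 ^ j - 1 by ring) ▸ this
      have hle : (2 : ℤ) ^ j ≤ 2 ^ f := by exact_mod_cast Nat.pow_le_pow_right (by norm_num) hjle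
      have hpos : 0 < (2 : ℤ) ^ j - 1 := by
        have : 2 ≤ 2 ^ j := Nat.le_self_pow (by omega) 2
        have : (2 : ℤ) ≤ 2 ^ j := by exact_mod_cast this
        omega
      have := Int.le_of_dvd hpos h2'
      omega
  obtain ⟨h, h', rfl⟩ := hcase
  refine ⟨?_, ?_⟩
  · rw [hQcard, hj, hi₁, hi₂, h, h', hf]; ring
  · rw [← hp.sub, hj, hi₁, hi₂, h, h', hf]; push_cast; ring

end Cfsg.Agent.H99.RankOne.Hecke
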