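import Mathlib.NumberTheory.Cyclotomic.Gal
import Mathlib.RingTheory.Norm.Transitivity
import Mathlib.RingTheory.IntegralClosure.IntegrallyClosed
import Mathlib.RingTheory.Polynomial.Cyclotomic.Roots
import Mathlib.Analysis.Complex.Polynomial.Basic
import Mathlib.RingTheory.RootsOfUnity.Complex
import Cfsg.Agent.CharBasic.Rep

/-!
# A sum of `m` odd roots of unity congruent to `m` modulo a natural number at least `2 m` is `m`
-/

set_option autoImplicit false

namespace Cfsg.Agent.H99.RankOne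

open Polynomial

/-- An algebraic integer in a cyclotomic field all of whose conjugates are smaller than one is zero. -/
theorem eq_zero_of_conjugates_small {n : ℕ} [NeZero n] (P : ℚ[X]) {ζ : ℂ}
    (hζ : IsPrimitiveRoot ζ n) (hint : IsIntegral ℤ (aeval ζ P))
    (hsmall : ∀ η : ℂ, IsPrimitiveRoot η n → ‖aeval η P‖ < 1) : aeval ζ P = 0 := by
  classical
  let K := CyclotomicField n ℚ
  haveI : NeZero ((n : ℕ) : ℚ) := ⟨by exact_mod_cast NeZero.ne n⟩
  haveI : IsCyclotomicExtension {n} ℚ K := CyclotomicField.isCyclotomicExtension n ℚ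
  have hzK := IsCyclotomicExtension.zeta_spec n ℚ K
  set z := IsCyclotomicExtension.zeta n ℚ K with hz
  haveI : FiniteDimensional ℚ K := IsCyclotomicExtension.finiteDimensional {n} ℚ K
  have hirr : Irreducible (Polynomial.cyclotomic n ℚ) :=
    Polynomial.cyclotomic.irreducible_rat (NeZero.pos n)
  set x : K := aeval z P with hx
  have hσ : ∀ σ : K →ₐ[ℚ] ℂ, σ x = aeval (σ z) P := fun σ => (aeval_algHom_apply σ z P).symm
  obtain ⟨σ₀, hσ'⟩ := (hzK.embeddingsEquivPrimitiveRoots ℂ hirr).surjective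
    ⟨ζ, (mem_primitiveRoots (NeZero.pos n)).2 hζ⟩
  have hzζ : σ₀ z = ζ := congrArg Subtype.val hσ'
  have hxint : IsIntegral ℤ x :=
    (isIntegral_algHom_iff (σ₀.restrictScalars ℤ) σ₀.toRingHom.injective).1 (by
      show IsIntegral ℤ (σ₀ x)
      rwa [hσ, hzζ])
  by_contra h
  have hx0 : x ≠ 0 := fun h0 => h (by rw [← hzζ, ← hσ, h0, map_zero])
  obtain ⟨N, hN⟩ := IsIntegrallyClosed.isIntegral_iff.1 (Algebra.isIntegral_norm ℚ hxint)
  have hN0 : N ≠ 0 := fun h0 => by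
    rw [h0, map_zero] at hN
    exact (Algebra.norm_ne_zero_iff.2 hx0) hN.symm
  have hnorm := congrArg norm (Algebra.norm_eq_prod_embeddings ℚ ℂ x)
  rw [← hN, show algebraMap ℚ ℂ (algebraMap ℤ ℚ N) = (N : ℂ) by simp, Complex.norm_intCast,
    norm_prod] at hnorm
  have h1 : (1 : ℝ) ≤ |(N : ℝ)| := by exact_mod_cast Int.one_le_abs hN0
  have hlt : ∀ σ : K →ₐ[ℚ] ℂ, ‖σ x‖ < 1 := fun σ => by
    rw [hσ]
    exact hsmall _ ((mem_primitiveRoots (NeZero.pos n)).1
      ((hzK.embeddingsEquivPrimitiveRoots ℂ hirr) σ).2)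
  have hpos : ∀ σ : K →ₐ[ℚ] ℂ, 0 < ‖σ x‖ := fun σ =>
    norm_pos_iff.2 fun e => hx0 (σ.toRingHom.injective (e.trans (map_zero σ.toRingHom).symm))
  have h2 : ∏ σ : K →ₐ[ℚ] ℂ, ‖σ x‖ < ∏ _σ : K →ₐ[ℚ] ℂ, (1 : ℝ) :=
    Finset.prod_lt_prod_of_nonempty (fun σ _ => hpos σ) (fun σ _ => hlt σ)
      ⟨σ₀, Finset.mem_univ _⟩
  rw [Finset.prod_const_one, ← hnorm] at h2
  linarith

/-- The key numerical lemma. -/
theorem all_one_of_congr {ι : Type*} [Fintype ι] {n : ℕ} (hn : Odd n) (μ : ι → ℂ)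
    (hμ : ∀ i, μ i ^ n = 1) {A : ℕ} (hA : 0 < A) (hle : 2 * Fintype.card ι ≤ A)
    (hint : IsIntegral ℤ (((Fintype.card ι : ℂ) - ∑ i, μ i) / A)) (i : ι) : μ i = 1 := by
  classical
  haveI : NeZero n := ⟨hn.pos.ne'⟩
  obtain ⟨ζ, hζ⟩ : ∃ ζ : ℂ, IsPrimitiveRoot ζ n := ⟨_, Complex.isPrimitiveRoot_exp n hn.pos.ne'⟩
  choose e he using fun i => hζ.eq_pow_of_pow_eq_one (hμ i)
  let P : ℚ[X] := C ((A : ℚ)⁻¹) * ∑ i, (1 - X ^ e i)
  have hP : ∀ η : ℂ, aeval η P = (∑ i, (1 - η ^ e i)) / A := fun η => by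
    simp [P, div_eq_inv_mul]
  have hζP : aeval ζ P = ((Fintype.card ι : ℂ) - ∑ i, μ i) / A := by
    rw [hP, Finset.sum_sub_distrib]
    simp [fun i => (he i).2]
  have hbound : ∀ η : ℂ, IsPrimitiveRoot η n → ‖aeval η P‖ < 1 := by
    intro η hη
    have hA' : (0 : ℝ) < A := by exact_mod_cast hA
    rw [hP, norm_div, Complex.norm_natCast, div_lt_one hA']
    haveI : Nonempty ι := ⟨i⟩
    have hterm : ∀ j, ‖1 - η ^ e j‖ < 2 := by
      intro j
      have hpow : (η ^ e j) ^ n = 1 := by rw [← pow_mul, mul_comm, pow_mul, hη.pow_eq_one, one_pow]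
      have hnorm : ‖η ^ e j‖ = 1 := Complex.norm_eq_one_of_pow_eq_one hpow hn.pos.ne'
      have hne : η ^ e j ≠ -1 := fun h => by
        rw [h, hn.neg_one_pow] at hpow
        norm_num at hpow
      set w := η ^ e j
      have hsq : ‖w‖ ^ 2 = w.re * w.re + w.im * w.im := by
        rw [Complex.sq_norm, Complex.normSq_apply]
      rw [hnorm] at hsq
      have hre : -1 < w.re := by
        by_contra hc
        push Not at hc
        have h0 : w.im = 0 := by nlinarith [mul_self_nonneg w.im]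
        have h1 : w.re = -1 := by nlinarith [mul_self_nonneg (w.re + 1)]
        exact hne (Complex.ext (by simp [h1]) (by simp [h0]))
      have h2 : ‖1 - w‖ ^ 2 = (1 - w.re) * (1 - w.re) + w.im * w.im := by
        rw [Complex.sq_norm, Complex.normSq_apply]
        simp
      nlinarith [norm_nonneg (1 - w)]
    calc ‖∑ j, (1 - η ^ e j)‖ ≤ ∑ j, ‖1 - η ^ e j‖ := norm_sum_le _ _
      _ < ∑ _j : ι, (2 : ℝ) :=
        Finset.sum_lt_sum_of_nonempty Finset.univ_nonempty fun j _ => hterm j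
      _ = ((2 * Fintype.card ι : ℕ) : ℝ) := by simp [mul_comm]
      _ ≤ A := by exact_mod_cast hle
  have hz := eq_zero_of_conjugates_small P hζ (hζP ▸ hint) hbound
  rw [hζP, div_eq_zero_iff, sub_eq_zero] at hz
  have hsum : ∑ j, μ j = (Fintype.card ι : ℂ) := (hz.resolve_right (by exact_mod_cast hA.ne')).symm
  have := CharBasic.eq_of_norm_sum_eq_card μ
    (fun j => Complex.norm_eq_one_of_pow_eq_one (hμ j) hn.pos.ne') (by rw [hsum]; simp) i
  rw [this, hsum, div_self (by exact_mod_cast (Fintype.card_pos_iff.2 ⟨i⟩).ne')]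

end Cfsg.Agent.H99.RankOne
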