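import Cfsg.Agent.H99.RankOne.Char
import Cfsg.Agent.H99.RankOne.Small
import Cfsg.Agent.H83.ClassConst
import Cfsg.Agent.S1122
import Cfsg.Agent.S1123
import Cfsg.Agent.H43.Galois

/-!
# Rank one: the values on `Q` of the idempotent character, and the integrality of its parameters
-/

set_option autoImplicit false
set_option linter.unusedSectionVars false

namespace Cfsg.Agent.H99.RankOne.Hecke

open MulAction Finset Polynomial
open scoped ComplexConjugate Classical

universe u v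

variable {G : Type u} {Ω : Type v} [Group G] [Fintype G] [MulAction G Ω] {a : Ω} {t : G}
  {Q : Subgroup G}
  (hS : Cfsg.IsRankOneSetup G Ω a t Q)
  {ω : ↥(stabilizer G a ⊓ stabilizer G (t • a)) →* ℂ} (hω : IsGoodHom hS ω)

include hω

theorem el_pow_card {g : G} (hg : g ∈ stabilizer G a) :
    el hS ω g ^ Nat.card ↥(stabilizer G a ⊓ stabilizer G (t • a)) = 1 := by
  rw [el_of_mem hS ω hg]
  show ω (dPart hS ⟨g, hg⟩) ^ _ = 1
  rw [← map_pow, pow_card_eq_one', map_one]

theorem el_inv_eq {g : G} (hg : g ∈ stabilizer G a) : el hS ω g⁻¹ = conj (el hS ω g) := by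
  have h := Complex.norm_eq_one_of_pow_eq_one (el_pow_card hS hω hg) Nat.card_pos.ne'
  rw [← Complex.inv_eq_conj h]
  exact eq_inv_of_mul_eq_one_left (el_inv_mul hS ω hg)

theorem fl_inv (g : G) : fl hS ω g⁻¹ = conj (fl hS ω g) := by
  by_cases hg : g ∈ stabilizer G a
  · rw [fl_of_mem hS ω hg, fl_of_mem hS ω (inv_mem hg), map_zero]
  obtain ⟨x, hx, y, hy, rfl⟩ := H38.canon_exists hS hg
  rw [fl_canon hS ω hx hy, ← el_inv_eq hS hω hx, mul_inv_rev, mul_inv_rev, H38.t_inv hS,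
    fl_left hS ω (inv_mem (hS.le hy)), fl_right hS hω (inv_mem hx), fl_t,
    el_of_mem_Q hS ω (inv_mem hy), one_mul, one_mul]

theorem kap_one : kap hS ω 1 = 0 :=
  fl_of_mem hS ω (by rw [mul_one, hS.mul_self]; exact one_mem _)

theorem kap_inv (x : G) : kap hS ω x⁻¹ = conj (kap hS ω x) := by
  rw [kap, kap, ← fl_inv hS hω, mul_inv_rev, mul_inv_rev, H38.t_inv hS, ← mul_assoc]

theorem kap_conj_D {d : G} (hd : d ∈ stabilizer G a ⊓ stabilizer G (t • a)) (x : G) :
    kap hS ω (d * x * d⁻¹) = kap hS ω x := by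
  have h1 := (H38.t_mem_normalizer_D hS hd).1
  have h2 := (H38.t_mem_normalizer_D hS (inv_mem hd)).1
  have e : t * (d * x * d⁻¹) * t = (t * d * t⁻¹) * (t * x * t) * (t * d⁻¹ * t⁻¹) := by
    simp [mul_assoc, H38.t_inv hS, ← mul_assoc t t, hS.mul_self]
  rw [kap, kap, e, fl_right hS hω h2, fl_left hS ω h1, el_conj_t hS hω hd,
    el_conj_t hS hω (inv_mem hd), mul_comm (el hS ω d), mul_assoc, el_mul_inv hS ω hd.1, mul_one]

/-- Involutions of the one-point stabiliser have trivial `kap`. -/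
theorem kap_invol {z : G} (hz : z ∈ Cfsg.involutionsIn (stabilizer G a : Set G)) :
    kap hS ω z = 1 := by
  obtain ⟨⟨s, r⟩, ⟨hs, hr, he⟩, -⟩ := S1123.result hS
  obtain ⟨k, hk, rfl⟩ := (S1122.result hS).2 s hs z hz
  have hkD : k ∈ stabilizer G a ⊓ stabilizer G (t • a) := hk.1
  have h := kap_conj_D hS hω (inv_mem hkD) s
  rw [inv_inv] at h
  simp only at he hs hr
  rw [h, kap, he, fl_right hS hω (hS.le hr), fl_left hS ω (inv_mem (hS.le hr)), fl_t,
    el_of_mem_Q hS ω (inv_mem hr), el_of_mem_Q hS ω hr, one_mul, one_mul]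

theorem kap_pow_card {x : G} (hx : x ∈ Q) (hx1 : x ≠ 1) :
    kap hS ω x ^ Nat.card ↥(stabilizer G a ⊓ stabilizer G (t • a)) = 1 := by
  have hn : t * x * t ∉ stabilizer G a := by
    intro hm
    apply hx1
    apply H38.eq_one_of_fix_base hS hx
    have h : (t * x * t) • a = a := hm
    rw [mul_smul, mul_smul] at h
    have := congrArg (t • ·) h
    simpa [H38.t_smul_t_smul hS] using this
  obtain ⟨h, hh, y, hy, e⟩ := H38.canon_exists hS hn
  rw [kap, e, fl_canon hS ω hh hy]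
  exact el_pow_card hS hω hh

theorem norm_kap {x : G} (hx : x ∈ Q) (hx1 : x ≠ 1) : ‖kap hS ω x‖ = 1 :=
  Complex.norm_eq_one_of_pow_eq_one (kap_pow_card hS hω hx hx1) Nat.card_pos.ne'

theorem isIntegral_kap {x : G} (hx : x ∈ Q) : IsIntegral ℤ (kap hS ω x) := by
  rcases eq_or_ne x 1 with rfl | hx1
  · rw [kap_one hS hω]; exact isIntegral_zero
  · exact IsIntegral.of_pow Nat.card_pos (by rw [kap_pow_card hS hω hx hx1]; exact isIntegral_one)

theorem isIntegral_coef : IsIntegral ℤ (coef hS ω) :=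
  IsIntegral.sum _ fun x _ => isIntegral_kap hS hω x.2

theorem conj_coef : conj (coef hS ω) = coef hS ω := by
  rw [coef, map_sum]
  exact Fintype.sum_equiv (Equiv.inv Q) _ _ fun x => by
    rw [← kap_inv hS hω]; rfl

/-- The sum of `kap` over the conjugates by `Q`. -/
noncomputable def conjSum (ω : ↥(stabilizer G a ⊓ stabilizer G (t • a)) →* ℂ) (x : G) : ℂ :=
  ∑ w : Q, kap hS ω ((w : G) * x * (w : G)⁻¹)

theorem chi_one (x y : ℂ) :
    chi hS ω x y 1 = ((Nat.card Q : ℂ) + 1) * y / (x + y) := by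
  have hG : (Nat.card G : ℂ) = (Nat.card (stabilizer G a) : ℂ) * ((Nat.card Q : ℂ) + 1) := by
    rw [H38.card_group hS, H38.card_stab hS]; push_cast; ring
  have hH : (Nat.card (stabilizer G a) : ℂ) ≠ 0 := Nat.cast_ne_zero.2 Nat.card_pos.ne'
  simp only [chi, inv_one, mul_one, inv_mul_cancel, idem, Pi.smul_apply, Pi.add_apply,
    smul_eq_mul, fl_of_mem hS ω (one_mem (stabilizer G a)), el_one, zero_add, Finset.sum_const,
    Finset.card_univ, nsmul_eq_mul, ← Nat.card_eq_fintype_card]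
  rw [hG]
  field_simp

theorem chi_Q {q : G} (hq : q ∈ Q) (hq1 : q ≠ 1) (x y : ℂ) :
    chi hS ω x y q = (y + conjSum hS ω q⁻¹) / (x + y) := by
  have hH : (Nat.card (stabilizer G a) : ℂ) ≠ 0 := Nat.cast_ne_zero.2 Nat.card_pos.ne'
  have hmem : ∀ h : G, h ∈ stabilizer G a → h⁻¹ * q⁻¹ * h ∈ Q := by
    intro h hh
    have := hS.conj_mem h⁻¹ (inv_mem hh) _ (inv_mem hq)
    rwa [inv_inv] at this
  have hnot : ∀ h : G, h ∉ stabilizer G a → h⁻¹ * q⁻¹ * h ∉ stabilizer G a := by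
    intro h hh hm
    apply hh
    have h1 : q • (h • a) = h • a := by
      have h2 : (h⁻¹ * q⁻¹ * h) • a = a := hm
      rw [mul_smul, mul_smul, inv_smul_eq_iff, inv_smul_eq_iff] at h2
      exact h2.symm
    exact H38.Q_fix_only hS hq hq1 h1
  have he : ∑ h : G, el hS ω (h⁻¹ * q⁻¹ * h) = (Nat.card (stabilizer G a) : ℂ) := by
    have h1 : ∀ h : G, el hS ω (h⁻¹ * q⁻¹ * h) = if h ∈ stabilizer G a then 1 else 0 := by
      intro h
      split_ifs with hh
      · exact el_of_mem_Q hS ω (hmem h hh)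
      · exact el_of_not_mem hS ω (hnot h hh)
    rw [Finset.sum_congr rfl fun h _ => h1 h, Finset.sum_boole, Nat.card_eq_fintype_card,
      Fintype.card_subtype]
  have hf : ∑ h : G, fl hS ω (h⁻¹ * q⁻¹ * h) =
      (Nat.card (stabilizer G a) : ℂ) * conjSum hS ω q⁻¹ := by
    have h1 : ∑ h : G, fl hS ω (h⁻¹ * q⁻¹ * h) = ∑ h : G, fl hS ω (h * q⁻¹ * h⁻¹) :=
      Fintype.sum_equiv (Equiv.inv G) _ _ fun h => by simp
    rw [h1, ← Finset.sum_filter_add_sum_filter_not Finset.univ (fun h => h ∈ stabilizer G a),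
      Finset.sum_eq_zero (s := Finset.univ.filter (fun h => h ∈ stabilizer G a)), zero_add]
    swap
    · intro h hh
      have hh' : h ∈ stabilizer G a := (Finset.mem_filter.1 hh).2
      exact fl_of_mem hS ω (mul_mem (mul_mem hh' (hS.le (inv_mem hq))) (inv_mem hh'))
    rw [conjSum, Nat.card_eq_fintype_card, ← Finset.card_univ, ← nsmul_eq_mul, ← Finset.sum_const,
      ← Fintype.sum_prod_type']
    refine (Finset.sum_bij (fun p _ => (p.1 : G) * t * (p.2 : G)) ?_ ?_ ?_ ?_).symm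
    · intro p _
      exact Finset.mem_filter.2 ⟨Finset.mem_univ _, not_mem_canon hS p.1.2 p.2.2⟩
    · intro p _ p' _ h
      obtain ⟨e1, e2⟩ := H38.canon_unique hS p.1.2 p'.1.2 p.2.2 p'.2.2 h
      exact Prod.ext (Subtype.ext e1) (Subtype.ext e2)
    · intro g hg
      obtain ⟨h', hh', y', hy', rfl⟩ := H38.canon_exists hS (Finset.mem_filter.1 hg).2
      exact ⟨(⟨h', hh'⟩, ⟨y', hy'⟩), Finset.mem_univ _, rfl⟩
    · intro p _
      rw [show (p.1 : G) * t * (p.2 : G) * q⁻¹ * ((p.1 : G) * t * (p.2 : G))⁻¹ =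
          (p.1 : G) * (t * ((p.2 : G) * q⁻¹ * (p.2 : G)⁻¹) * t) * (p.1 : G)⁻¹ by
            simp [mul_assoc, H38.t_inv hS],
        fl_right hS hω (inv_mem p.1.2), fl_left hS ω p.1.2, mul_comm (el hS ω (p.1 : G)),
        mul_assoc (fl hS ω _), el_mul_inv hS ω p.1.2, mul_one]
      rfl
  simp only [chi, idem, Pi.smul_apply, Pi.add_apply, smul_eq_mul, ← Finset.mul_sum,
    Finset.sum_add_distrib, he, hf]
  field_simp
  ring

theorem conjSum_central {q : G} (hc : ∀ w ∈ Q, w * q = q * w) :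
    conjSum hS ω q = (Nat.card Q : ℂ) * kap hS ω q := by
  rw [conjSum, Finset.sum_congr rfl fun w _ => by rw [hc w w.2, mul_inv_cancel_right]]
  simp [Nat.card_eq_fintype_card]

end Cfsg.Agent.H99.RankOne.Hecke
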